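import Cfsg.Agent.Lib.TwoFusion.DihedralProduct.Basic
import Cfsg.Agent.Lib.ZStar.Main

/-!
# Odd elements centralise a strongly closed dihedral subgroup with central involution

Modulo the core. The proof is the Z*-theorem applied successively down the rotation subgroup.
-/

set_option autoImplicit false

namespace CfsgLib.TwoFusion.DihedralProduct

open Subgroup Cfsg
open CfsgLib.Signalizer (involution_sq involution_inv involution_ne_one orderOf_eq_two_of orderOf_conj)
open CfsgLib.FTDep (coreCent)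

universe u

/-- A quotient of a coreless group by a central 2-subgroup is coreless. -/
theorem oddCore_quotient_central {H : Type*} [Group H] [Finite H] (Z : Subgroup H) [Z.Normal]
    (hZ : Z ≤ center H) (h2 : IsPGroup 2 Z) (hO : oddCore H = ⊥) : oddCore (H ⧸ Z) = ⊥ := by
  haveI : Fact (Nat.Prime 2) := ⟨Nat.prime_two⟩
  set π := QuotientGroup.mk' Z
  set K := (oddCore (H ⧸ Z)).comap π with hK
  have hZK : Z ≤ K := fun z hz => by
    show π z ∈ oddCore (H ⧸ Z)
    rw [show π z = 1 from (QuotientGroup.eq_one_iff z).2 hz]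
    exact one_mem _
  haveI : (Z.subgroupOf K).Normal := inferInstance
  have hmul := CfsgLib.Core.card_comap_mk' Z (oddCore (H ⧸ Z))
  have hidx : (Z.subgroupOf K).index = Nat.card (oddCore (H ⧸ Z)) := by
    apply Nat.eq_of_mul_eq_mul_left (Nat.card_pos (α := Z.subgroupOf K))
    rw [card_mul_index, Nat.card_congr (subgroupOfEquivOfLe hZK).toEquiv, hK, hmul]
  have hcop : (Nat.card (Z.subgroupOf K)).Coprime (Z.subgroupOf K).index := by
    obtain ⟨k, hk⟩ := IsPGroup.iff_card.1 h2
    rw [hidx, Nat.card_congr (subgroupOfEquivOfLe hZK).toEquiv, hk]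
    exact (Nat.coprime_two_left.2 (CfsgLib.ZStar.odd_card_oddCore _)).pow_left k
  obtain ⟨B, hB⟩ := Subgroup.exists_right_complement'_of_coprime hcop
  have hBodd : Odd (Nat.card B) := by
    rw [← hB.symm.index_eq_card, hidx]
    exact CfsgLib.ZStar.odd_card_oddCore _
  set N := closure {k : H | k ∈ K ∧ Odd (orderOf k)}
  have hN : N.Normal := ⟨fun a ha g => by
    have hle : N.map (MulAut.conj g).toMonoidHom ≤ N := by
      rw [MonoidHom.map_closure]
      refine closure_mono ?_
      rintro _ ⟨k, hk, rfl⟩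
      exact ⟨(inferInstance : K.Normal).conj_mem k hk.1 g,
        (show Odd (orderOf (g * k * g⁻¹)) by rw [orderOf_conj]; exact hk.2)⟩
    exact hle (mem_map_of_mem _ ha)⟩
  have hNB : N ≤ B.map K.subtype := by
    refine (closure_le _).2 fun k hk => ?_
    obtain ⟨⟨⟨z, hz⟩, b⟩, hzb⟩ := hB.2 ⟨k, hk.1⟩
    have hzZ : (z : H) ∈ Z := mem_subgroupOf.1 hz
    have he : (z : H) * ((b : K) : H) = k := congrArg Subtype.val hzb
    have hcomm : Commute (z : H) ((b : K) : H) := (mem_center_iff.1 (hZ hzZ) _).symm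
    have h1 : (z : H) ^ orderOf k * ((b : K) : H) ^ orderOf k = 1 := by
      rw [← hcomm.mul_pow, he, pow_orderOf_eq_one]
    have h3 : z ^ orderOf k = 1 := by
      have hmem : z ^ orderOf k ∈ B := by
        have : z ^ orderOf k = ((b : K) ^ orderOf k)⁻¹ := eq_inv_of_mul_eq_one_left (Subtype.ext h1)
        rw [this]
        exact inv_mem (pow_mem b.2 _)
      have : z ^ orderOf k ∈ Z.subgroupOf K ⊓ B := ⟨pow_mem hz _, hmem⟩
      rwa [hB.isCompl.inf_eq_bot, mem_bot] at this
    have hz1 : z = 1 := by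
      obtain ⟨j, hj⟩ := (IsPGroup.iff_orderOf.1 h2) ⟨(z : H), hzZ⟩
      rw [Subgroup.orderOf_mk, Subgroup.orderOf_coe] at hj
      have := Nat.dvd_gcd (orderOf_dvd_of_pow_eq_one h3) (dvd_refl (orderOf z))
      rw [hj, (Nat.coprime_two_right.2 hk.2).pow_right j] at this
      exact orderOf_eq_one_iff.1 (by rw [hj]; exact Nat.dvd_one.1 this)
    refine ⟨b, b.2, ?_⟩
    rw [← he, hz1]
    simp
  have hNbot : N = ⊥ := le_bot_iff.1 <| hO ▸ CfsgLib.ZStar.le_oddCore hN
    (((card_map_of_injective K.subtype_injective (K := B)).symm ▸ hBodd).of_dvd_nat (card_dvd_of_le hNB))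
  have hB1 : B = ⊥ := (eq_bot_iff_forall _).2 fun b hb => Subtype.ext <| by
    have : (b : H) ∈ N := subset_closure ⟨b.2, by
      rw [Subgroup.orderOf_coe]; exact hBodd.of_dvd_nat (Subgroup.orderOf_dvd_natCard _ hb)⟩
    rw [hNbot, mem_bot] at this
    exact this
  rw [← Subgroup.card_eq_one, ← hidx, hB.symm.index_eq_card, hB1, card_bot]

/-- An element of odd order moving an element only by a central involution fixes it. -/
theorem commute_of_central {H : Type*} [Group H] {z h d : H} (hz : z ∈ center H) (hz2 : orderOf z = 2)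
    (hodd : Odd (orderOf h)) (hm : h * d * h⁻¹ * d⁻¹ ∈ zpowers z) : Commute h d := by
  have hmem : h * d * h⁻¹ * d⁻¹ = 1 ∨ h * d * h⁻¹ * d⁻¹ = z := by
    obtain ⟨k, hk⟩ := mem_zpowers_iff.1 hm
    rw [← hk]
    have hsq : z ^ (2 : ℤ) = 1 := by rw [zpow_two, involution_sq hz2]
    rcases Int.even_or_odd k with ⟨e, rfl⟩ | ⟨e, rfl⟩
    · left; rw [← two_mul, zpow_mul, hsq, one_zpow]
    · right; rw [zpow_add, zpow_mul, hsq, one_zpow, one_mul, zpow_one]
  rcases hmem with h1 | h1
  · exact mul_inv_eq_iff_eq_mul.1 (mul_inv_eq_one.1 h1)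
  · exfalso
    have hd : h * d * h⁻¹ = z * d := mul_inv_eq_iff_eq_mul.1 h1
    have key : ∀ k : ℕ, h ^ k * d * (h ^ k)⁻¹ = z ^ k * d := by
      intro k
      induction k with
      | zero => simp
      | succ k ih =>
        calc h ^ (k + 1) * d * (h ^ (k + 1))⁻¹ = h * (h ^ k * d * (h ^ k)⁻¹) * h⁻¹ := by
              rw [pow_succ']; group
          _ = z ^ k * (h * d * h⁻¹) := by
              rw [ih, ← mul_assoc, mem_center_iff.1 (pow_mem hz k) h]; group
          _ = z ^ (k + 1) * d := by rw [hd, pow_succ, mul_assoc]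
    obtain ⟨j, hj⟩ := hodd
    have h2 := key (orderOf h)
    rw [pow_orderOf_eq_one, one_mul, inv_one, mul_one, hj, pow_succ, pow_mul, pow_two,
      involution_sq hz2, one_pow, one_mul] at h2
    exact involution_ne_one hz2 (mul_eq_right.1 h2.symm)

/-- An isolated involution of a coreless group is central. -/
theorem central_of_isolated {H : Type*} [Group H] [Finite H] (hO : oddCore H = ⊥) (T : Sylow 2 H)
    {u : H} (hu : orderOf u = 2) (huT : u ∈ T)
    (hiso : ∀ g : H, g * u * g⁻¹ ∈ T → g * u * g⁻¹ = u) : u ∈ center H := by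
  refine mem_center_iff.2 fun g => ?_
  have h := CfsgLib.ZStar.mem_oddCore_of_sylow T hu huT hiso g
  rw [hO, mem_bot, mul_inv_eq_one, mul_inv_eq_iff_eq_mul] at h
  exact h.symm

/-- A Sylow subgroup is the product of `D` and a subgroup centralising it, and the conjugates in it
of involutions of `D` lie in `D`. -/
structure Fac {H : Type*} [Group H] (T D U : Subgroup H) : Prop where
  left_le : D ≤ T
  right_le : U ≤ T
  comm : ∀ d ∈ D, ∀ u ∈ U, Commute d u
  disjoint : ∀ v, v ∈ D → v ∈ U → v = 1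
  cover : ∀ t ∈ T, ∃ d ∈ D, ∃ u ∈ U, t = d * u
  closed : ∀ x ∈ D, x * x = 1 → ∀ g : H, g * x * g⁻¹ ∈ T → g * x * g⁻¹ ∈ D

/-- The coreless form. -/
theorem odd_centralizes : ∀ (n : ℕ) (H : Type u) [Group H] [Finite H], oddCore H = ⊥ →
    ∀ (T : Sylow 2 H) (D U : Subgroup H), Fac (T : Subgroup H) D U →
    ∀ r : H, Rot D n r → (∃ s ∈ D, s ∉ zpowers r) → r ^ 2 ^ (n - 1) ∈ center H →
    ∀ h : H, Odd (orderOf h) → ∀ d ∈ D, Commute h d := by
  intro n
  induction n with
  | zero => intro H _ _ _ T D U _ r R; exact absurd R.pos (by omega)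
  | succ n ih =>
    intro H _ _ hO T D U F r R hsD hz h hh d hd
    obtain ⟨s, hs, hsr⟩ := hsD
    haveI : Fact (Nat.Prime 2) := ⟨Nat.prime_two⟩
    set z := r ^ 2 ^ (n + 1 - 1) with hzdef
    set Z := zpowers z with hZdef
    have hZc : Z ≤ center H := zpowers_le.2 hz
    haveI : Z.Normal := ⟨fun x hx g => by rwa [mem_center_iff.1 (hZc hx) g, mul_inv_cancel_right]⟩
    set π := QuotientGroup.mk' Z with hπ
    have hker : ∀ x, π x = 1 ↔ x ∈ Z := fun x => QuotientGroup.eq_one_iff x
    have hO' : oddCore (H ⧸ Z) = ⊥ := oddCore_quotient_central Z hZc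
      (IsPGroup.of_card (n := 1) (by rw [hZdef, Nat.card_zpowers, hzdef, R.half_order, pow_one])) hO
    set T' := T.mapSurjective (QuotientGroup.mk'_surjective Z)
    have hZD : Z ≤ D := zpowers_le.2 R.half_mem
    have hZr : Z ≤ zpowers r := zpowers_le.2 R.half_mem_zpowers
    have hlift : ∀ v, π v ∈ (T' : Subgroup (H ⧸ Z)) → v ∈ (T : Subgroup H) := by
      rintro v ⟨t, ht, htv⟩
      have : t⁻¹ * v ∈ Z := QuotientGroup.eq.1 htv
      simpa using mul_mem ht (F.left_le (hZD this))
    have hout : ∀ e ∈ D, e ∉ zpowers r → π e ≠ 1 := fun e _ he h1 => he (hZr ((hker e).1 h1))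
    have main : Commute (π h) (π d) := by
      rcases Nat.eq_zero_or_pos n with rfl | hn
      · -- `D / Z` has order at most two
        by_cases h1 : π d = 1
        · rw [h1]; exact Commute.one_right _
        have hzr : z = r := by rw [hzdef]; simp
        have hnot : ∀ e, π e ≠ 1 → e ∉ zpowers r := fun e he hm => he ((hker e).2 (hZdef ▸ hzr ▸ hm))
        have heq : ∀ e ∈ D, π e ≠ 1 → π e = π d := fun e he he1 => by
          have hm := R.two e he (hnot e he1) d hd (hnot d h1)
          rw [← hzr, ← hZdef, ← hker, map_mul] at hm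
          rw [eq_inv_of_mul_eq_one_left hm, ← map_inv,
            inv_eq_of_mul_eq_one_right (R.sq d hd (hnot d h1))]
        have hd2 : orderOf (π d) = 2 := orderOf_eq_two_of h1 (by
          rw [← map_mul, R.sq d hd (hnot d h1), map_one])
        have hdT : π d ∈ (T' : Subgroup (H ⧸ Z)) := mem_map_of_mem π (F.left_le hd)
        refine (mem_center_iff.1 (central_of_isolated hO' T' hd2 hdT fun g hg => ?_) (π h))
        obtain ⟨g, rfl⟩ := QuotientGroup.mk'_surjective Z g
        rw [← map_inv, ← map_mul, ← map_mul] at hg ⊢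
        refine heq _ (F.closed d hd (R.sq d hd (hnot d h1)) g (hlift _ hg)) fun e1 => h1 ?_
        rw [map_mul, map_mul, map_inv, conj_eq_one_iff] at e1
        exact e1
      · have R' := R.map (by omega) π hker
        set x := r ^ 2 ^ (n + 1 - 1 - 1) with hxdef
        have hxx : x * x = z := by
          rw [hxdef, ← pow_add, ← two_mul, ← pow_succ', hzdef]
          congr 2
          omega
        have hx' : π r ^ 2 ^ (n + 1 - 1 - 1) = π x := (map_pow π r _).symm
        have hxr : x ∈ zpowers r := npow_mem_zpowers r _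
        have hmem_r : ∀ v ∈ zpowers r, π v ∈ zpowers (π r) := fun v hv => by
          rw [← MonoidHom.map_zpowers]; exact mem_map_of_mem π hv
        have hsr' : π s ∉ zpowers (π r) := fun hm => by
          obtain ⟨k, hk⟩ := mem_zpowers_iff.1 hm
          rw [← map_zpow] at hk
          exact hsr ((mul_mem_cancel_left (inv_mem (zpow_mem (mem_zpowers r) k))).1
            (hZr (QuotientGroup.eq.1 hk)))
        -- every conjugate of `π x` in the Sylow subgroup is `π x`
        have hiso : ∀ g : H ⧸ Z, g * π x * g⁻¹ ∈ (T' : Subgroup (H ⧸ Z)) → g * π x * g⁻¹ = π x := by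
          intro g hg
          obtain ⟨g, rfl⟩ := QuotientGroup.mk'_surjective Z g
          rw [← map_inv, ← map_mul, ← map_mul] at hg
          obtain ⟨e, he, u, hu, hw⟩ := F.cover _ (hlift _ hg)
          have hsq : g * x * g⁻¹ * (g * x * g⁻¹) = z := by
            calc g * x * g⁻¹ * (g * x * g⁻¹) = g * (x * x) * g⁻¹ := by group
              _ = z := by rw [hxx, mem_center_iff.1 hz g, mul_inv_cancel_right]
          rw [hw] at hsq
          have hsplit : (e * e) * (u * u) = z := by
            rw [← hsq, mul_assoc e u, ← mul_assoc u e u, ← (F.comm e he u hu).eq]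
            group
          have hu1 : u * u = 1 := by
            refine F.disjoint _ ?_ (mul_mem hu hu)
            rw [show u * u = (e * e)⁻¹ * z by rw [← hsplit]; group]
            exact mul_mem (inv_mem (mul_mem he he)) R.half_mem
          rw [hu1, mul_one] at hsplit
          have her : e ∈ zpowers r := by
            by_contra hne
            rw [R.sq e he hne] at hsplit
            exact involution_ne_one R.half_order hsplit.symm
          have hcomm : ∀ a b, a ∈ zpowers r → b ∈ zpowers r → Commute a b := by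
            rintro a b ha hb
            obtain ⟨i, rfl⟩ := mem_zpowers_iff.1 ha
            obtain ⟨j, rfl⟩ := mem_zpowers_iff.1 hb
            exact (Commute.refl r).zpow_zpow i j
          have hex : π e = π x := by
            have hq : e * x⁻¹ * (e * x⁻¹) = 1 := by
              rw [← pow_two, ((hcomm _ _ her hxr).inv_right).mul_pow, pow_two, hsplit, inv_pow, pow_two,
                hxx, mul_inv_cancel]
            have hmem : e * x⁻¹ ∈ Z := by
              rcases R.eq_half_of_mem (mul_mem her (inv_mem hxr)) hq with e1 | e1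
              · rw [e1]; exact one_mem _
              · rw [e1]; exact mem_zpowers z
            have h1 := (hker _).2 hmem
            rwa [map_mul, map_inv, mul_inv_eq_one] at h1
          have hwD : ∀ v ∈ D.map π, Commute (π (g * x * g⁻¹)) v := by
            rintro _ ⟨v, hv, rfl⟩
            rw [hw, map_mul, hex]
            refine Commute.mul_left ?_ ((F.comm v hv u hu).symm.map π)
            rw [← hx']
            exact (R'.half_central (mem_map_of_mem π hv)).symm
          have hTC : (T' : Subgroup (H ⧸ Z)) ≤ centralizer ({π x} : Set (H ⧸ Z)) := by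
            rintro _ ⟨t, ht, rfl⟩
            obtain ⟨a, ha, b, hb, rfl⟩ := F.cover t ht
            refine mem_centralizer_singleton_iff.2 ?_
            rw [map_mul]
            refine (Commute.mul_left ?_ ((F.comm x (pow_mem R.mem _) b hb).symm.map π)).eq
            rw [← hx']
            exact R'.half_central (mem_map_of_mem π ha)
          set γ := π g with hγ
          have hγx : π (g * x * g⁻¹) = γ * π x * γ⁻¹ := by rw [map_mul, map_mul, map_inv]
          set Q := (D.map π).map (MulAut.conj γ⁻¹).toMonoidHom with hQdef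
          have hQC : Q ≤ centralizer ({π x} : Set (H ⧸ Z)) := by
            rintro _ ⟨v, hv, rfl⟩
            refine mem_centralizer_singleton_iff.2 ?_
            have h1 := hwD v hv
            rw [hγx] at h1
            show γ⁻¹ * v * γ⁻¹⁻¹ * π x = π x * (γ⁻¹ * v * γ⁻¹⁻¹)
            calc γ⁻¹ * v * γ⁻¹⁻¹ * π x = γ⁻¹ * (v * (γ * π x * γ⁻¹)) * γ := by group
              _ = _ := by rw [← h1.eq]; group
          have hQ2 : IsPGroup 2 Q :=
            ((T'.2.to_le (map_mono F.left_le : D.map π ≤ (T' : Subgroup (H ⧸ Z))))).map _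
          obtain ⟨k, hk, hkT⟩ := exists_conj_into T' hTC hQC hQ2
          set c := k * γ⁻¹ with hc
          have hcD : ∀ v ∈ D.map π, c * v * c⁻¹ ∈ (T' : Subgroup (H ⧸ Z)) := fun v hv => by
            have := hkT _ (mem_map_of_mem _ hv)
            simpa [hc, mul_assoc] using this
          have hcx : c * π (g * x * g⁻¹) * c⁻¹ = π x := by
            rw [hγx, hc]
            calc k * γ⁻¹ * (γ * π x * γ⁻¹) * (k * γ⁻¹)⁻¹ = k * π x * k⁻¹ := by group
              _ = π x := by rw [mem_centralizer_singleton_iff.1 hk, mul_inv_cancel_right]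
          -- `c` maps reflections to reflections
          have hrefl : ∀ v ∈ D, v ∉ zpowers r →
              ∃ v' ∈ D, v' ∉ zpowers r ∧ c * π v * c⁻¹ = π v' := by
            intro v hv hvr
            obtain ⟨c', hc'⟩ := QuotientGroup.mk'_surjective Z c
            have hmem := hcD _ (mem_map_of_mem π hv)
            rw [← hc', ← map_inv, ← map_mul, ← map_mul] at hmem ⊢
            refine ⟨_, F.closed v hv (R.sq v hv hvr) c' (hlift _ hmem), fun hm => ?_, rfl⟩
            refine hout v hv hvr ?_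
            have h2 : c' * v * c'⁻¹ * (c' * v * c'⁻¹) = 1 := by
              calc c' * v * c'⁻¹ * (c' * v * c'⁻¹) = c' * (v * v) * c'⁻¹ := by group
                _ = 1 := by rw [R.sq v hv hvr]; group
            have h3 : π (c' * v * c'⁻¹) = 1 := (hker _).2 (by
              rcases R.eq_half_of_mem hm h2 with e1 | e1
              · rw [e1]; exact one_mem _
              · rw [e1]; exact mem_zpowers z)
            rwa [map_mul, map_mul, map_inv, conj_eq_one_iff] at h3
          have hcr : c * π r * c⁻¹ ∈ zpowers (π r) := by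
            have hm := R.mul_mem_of (mem_zpowers r) hs hsr
            obtain ⟨a, ha, har, hae⟩ := hrefl _ hm.1 hm.2
            obtain ⟨b, hb, hbr, hbe⟩ := hrefl s hs hsr
            have e1 : c * π r * c⁻¹ = (c * π (r * s) * c⁻¹) * (c * π s * c⁻¹)⁻¹ := by
              rw [map_mul]; group
            rw [e1, hae, hbe, ← map_inv, ← map_mul, inv_eq_of_mul_eq_one_right (R.sq b hb hbr)]
            exact hmem_r _ (R.two a ha har b hb hbr)
          have hcxx : c * π x * c⁻¹ = π x := by
            have h1 : c * π x * c⁻¹ ∈ zpowers (π r) := by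
              rw [← hx', ← conj_pow]; exact pow_mem hcr _
            have h2 : c * π x * c⁻¹ * (c * π x * c⁻¹) = 1 := by
              calc c * π x * c⁻¹ * (c * π x * c⁻¹) = c * (π x * π x) * c⁻¹ := by group
                _ = 1 := by rw [← map_mul, hxx, (hker z).2 (mem_zpowers z)]; group
            rcases R'.eq_half_of_mem h1 h2 with e1 | e1
            · rw [conj_eq_one_iff] at e1
              exact absurd (hx'.trans e1) (involution_ne_one R'.half_order)
            · rw [e1, hx']
          have := mul_left_cancel (mul_right_cancel (hcx.trans hcxx.symm))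
          rw [← hγx]
          exact this
        have hcent : π r ^ 2 ^ (n + 1 - 1 - 1) ∈ center (H ⧸ Z) :=
          central_of_isolated hO' T' R'.half_order
            (by rw [hx']; exact mem_map_of_mem π (F.left_le (pow_mem R.mem _)))
            fun g hg => by rw [hx'] at hg ⊢; exact hiso g hg
        have F' : Fac (T' : Subgroup (H ⧸ Z)) (D.map π) (U.map π) := by
          refine ⟨map_mono F.left_le, map_mono F.right_le, ?_, ?_, ?_, ?_⟩
          · rintro _ ⟨a, ha, rfl⟩ _ ⟨b, hb, rfl⟩; exact (F.comm a ha b hb).map π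
          · rintro _ ⟨a, ha, rfl⟩ ⟨b, hb, hba⟩
            have hbD : b ∈ D := by
              have h1 : b⁻¹ * a ∈ Z := QuotientGroup.eq.1 hba
              have h2 := mul_mem ha (inv_mem (hZD h1))
              simpa [mul_assoc] using h2
            rw [← hba, F.disjoint b hbD hb, map_one]
          · rintro _ ⟨t, ht, rfl⟩
            obtain ⟨a, ha, b, hb, rfl⟩ := F.cover t ht
            exact ⟨_, mem_map_of_mem π ha, _, mem_map_of_mem π hb, map_mul π a b⟩
          · rintro _ ⟨a, ha, rfl⟩ ha2 g hg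
            by_cases har : a ∈ zpowers r
            · rcases R'.eq_half_of_mem (hmem_r a har) ha2 with e1 | e1
              · rw [e1]; simp
              · rw [hx'] at e1
                rw [e1] at hg ⊢
                rw [hiso g hg]
                exact mem_map_of_mem π (pow_mem R.mem _)
            · obtain ⟨g, rfl⟩ := QuotientGroup.mk'_surjective Z g
              rw [← map_inv, ← map_mul, ← map_mul] at hg ⊢
              exact mem_map_of_mem π (F.closed a ha (R.sq a ha har) g (hlift _ hg))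
        exact ih (H ⧸ Z) hO' T' (D.map π) (U.map π) F' (π r) R' ⟨π s, mem_map_of_mem π hs, hsr'⟩ hcent
          (π h) (hh.of_dvd_nat (orderOf_map_dvd π h)) (π d) (mem_map_of_mem π hd)
    refine commute_of_central hz R.half_order hh ?_
    rw [← hZdef, ← hker, map_mul, map_mul, map_mul, map_inv, map_inv, main.eq]
    group

theorem Rot.map_inj {G H : Type*} [Group G] [Group H] {D : Subgroup G} {n : ℕ} {r : G} (R : Rot D n r)
    (f : G →* H) (hinj : ∀ x ∈ D, f x = 1 → x = 1) : Rot (D.map f) n (f r) := by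
  have hout : ∀ d ∈ D, f d ∉ zpowers (f r) → d ∉ zpowers r := fun d _ hdf h => by
    obtain ⟨k, rfl⟩ := mem_zpowers_iff.1 h
    exact hdf (mem_zpowers_iff.2 ⟨k, (map_zpow f r k).symm⟩)
  refine ⟨R.pos, mem_map_of_mem f R.mem, ?_, ?_, ?_, ?_⟩
  · refine (Nat.dvd_antisymm (orderOf_map_dvd f r) (orderOf_dvd_of_pow_eq_one ?_)).trans R.order
    exact hinj _ (pow_mem R.mem _) (by rw [map_pow, pow_orderOf_eq_one])
  · rintro _ ⟨d, hd, rfl⟩ hdf
    rw [← map_mul, R.sq d hd (hout d hd hdf), map_one]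
  · rintro _ ⟨d, hd, rfl⟩ hdf
    rw [← map_mul, ← map_inv, ← map_mul, R.inv d hd (hout d hd hdf), map_inv]
  · rintro _ ⟨d, hd, rfl⟩ hdf _ ⟨e, he, rfl⟩ hef
    obtain ⟨k, hk⟩ := mem_zpowers_iff.1 (R.two d hd (hout d hd hdf) e he (hout e he hef))
    exact mem_zpowers_iff.2 ⟨k, by rw [← map_mul, ← hk, map_zpow]⟩

/-- The form modulo the core. -/
theorem odd_centralizes_mod {C : Type u} [Group C] [Finite C] (T : Sylow 2 C) {D : Subgroup C}
    {U : Subgroup C} (F : Fac (T : Subgroup C) D U)
    {n : ℕ} {r : C} (R : Rot D n r) (hsD : ∃ s ∈ D, s ∉ zpowers r)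
    (hz : ∀ c : C, r ^ 2 ^ (n - 1) * c * (r ^ 2 ^ (n - 1))⁻¹ * c⁻¹ ∈ oddCore C)
    {h : C} (hh : Odd (orderOf h)) {d : C} (hd : d ∈ D) : h * d * h⁻¹ * d⁻¹ ∈ oddCore C := by
  haveI : Fact (Nat.Prime 2) := ⟨Nat.prime_two⟩
  set π := QuotientGroup.mk' (oddCore C) with hπ
  have hker : ∀ x, π x = 1 ↔ x ∈ oddCore C := fun x => QuotientGroup.eq_one_iff x
  set T' := T.mapSurjective (QuotientGroup.mk'_surjective (oddCore C))
  have hcop : (T : Subgroup C) ⊓ oddCore C = ⊥ := inf_eq_bot_of_coprime
    ((IsPGroup.iff_card.1 T.2).choose_spec ▸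
      ((CfsgLib.Core.coprime_card_pPrimeCore 2 C).symm.pow_left _))
  have hinj : ∀ x ∈ D, π x = 1 → x = 1 := fun x hx h1 => by
    have : x ∈ (T : Subgroup C) ⊓ oddCore C := ⟨F.left_le hx, (hker x).1 h1⟩
    rwa [hcop, mem_bot] at this
  have hcl' : ∀ x ∈ D.map π, x * x = 1 → ∀ g, g * x * g⁻¹ ∈ (T' : Subgroup _) → g * x * g⁻¹ ∈ D.map π := by
    rintro _ ⟨x, hx, rfl⟩ hx2 g hg
    obtain ⟨g, rfl⟩ := QuotientGroup.mk'_surjective _ g
    rw [← map_inv, ← map_mul, ← map_mul] at hg ⊢
    obtain ⟨t, ht, htg⟩ := hg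
    set e := g * x * g⁻¹ with he
    have hTn : (T : Subgroup C) ≤ normalizer (oddCore C : Set C) := CfsgLib.Core.le_normalizer_of_normal _ _
    have hmemK : e ∈ (T : Subgroup C) ⊔ oddCore C := by
      have h1 : t⁻¹ * e ∈ oddCore C := QuotientGroup.eq.1 htg
      simpa using mul_mem (mem_sup_left (T := oddCore C) ht) (mem_sup_right (S := (T : Subgroup C)) h1)
    have heP : IsPGroup 2 (zpowers e) := by
      obtain ⟨k, hk⟩ := IsPGroup.iff_orderOf.1 T.2 ⟨x, F.left_le hx⟩
      exact IsPGroup.of_card (n := k) (by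
        rw [Nat.card_zpowers, he, orderOf_conj, ← hk, Subgroup.orderOf_mk])
    obtain ⟨k, hk, hkT⟩ := exists_conj_into T le_sup_left (zpowers_le.2 hmemK) heP
    obtain ⟨t', ht', u, hu, rfl⟩ := (CfsgLib.Core.mem_sup_iff_mul hTn).1 hk
    have hue : u * e * u⁻¹ ∈ (T : Subgroup C) := by
      have := mul_mem (mul_mem (inv_mem ht') (hkT e (mem_zpowers e))) ht'
      rw [show t'⁻¹ * (t' * u * e * (t' * u)⁻¹) * t' = u * e * u⁻¹ by group] at this
      exact this
    have hue' : u * e * u⁻¹ = u * g * x * (u * g)⁻¹ := by rw [he]; group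
    rw [hue'] at hue
    refine ⟨_, F.closed x hx (hinj _ (mul_mem hx hx) (by rw [map_mul, hx2])) (u * g) hue, ?_⟩
    rw [← hue', map_mul, map_mul, map_inv, (hker u).2 hu, inv_one, one_mul, mul_one]
  have hinjT : ∀ x ∈ (T : Subgroup C), π x = 1 → x = 1 := fun x hx h1 => by
    have : x ∈ (T : Subgroup C) ⊓ oddCore C := ⟨hx, (hker x).1 h1⟩
    rwa [hcop, mem_bot] at this
  have hsD' : ∃ s ∈ D.map π, s ∉ zpowers (π r) := by
    obtain ⟨s, hs, hsr⟩ := hsD
    refine ⟨π s, mem_map_of_mem π hs, fun hm => ?_⟩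
    obtain ⟨k, hk⟩ := mem_zpowers_iff.1 hm
    rw [← map_zpow] at hk
    have h1 : π ((r ^ k)⁻¹ * s) = 1 := by rw [map_mul, map_inv, hk, inv_mul_cancel]
    exact hsr (inv_mul_eq_one.1 (hinj _ (mul_mem (inv_mem (zpow_mem R.mem k)) hs) h1) ▸
      zpow_mem (mem_zpowers r) k)
  have F' : Fac (T' : Subgroup (C ⧸ oddCore C)) (D.map π) (U.map π) := by
    refine ⟨map_mono F.left_le, map_mono F.right_le, ?_, ?_, ?_, hcl'⟩
    · rintro _ ⟨a, ha, rfl⟩ _ ⟨b, hb, rfl⟩; exact (F.comm a ha b hb).map π
    · rintro _ ⟨a, ha, rfl⟩ ⟨b, hb, hba⟩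
      have h1 := hinjT _ (mul_mem (inv_mem (F.right_le hb)) (F.left_le ha))
        (by rw [map_mul, map_inv, hba, inv_mul_cancel])
      rw [← hba, F.disjoint b ((inv_mul_eq_one.1 h1).symm ▸ ha) hb, map_one]
    · rintro _ ⟨t, ht, rfl⟩
      obtain ⟨a, ha, b, hb, rfl⟩ := F.cover t ht
      exact ⟨_, mem_map_of_mem π ha, _, mem_map_of_mem π hb, map_mul π a b⟩
  have hmain := odd_centralizes n (C ⧸ oddCore C) (CfsgLib.Core.pPrimeCore_quotient_pPrimeCore 2 C)
    T' (D.map π) (U.map π) F' (π r) (R.map_inj π hinj) hsD' (mem_center_iff.2 fun q => by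
      obtain ⟨c, rfl⟩ := QuotientGroup.mk'_surjective _ q
      have h1 := (hker _).2 (hz c)
      rw [map_mul, map_mul, map_mul, map_inv, map_inv, mul_inv_eq_one, mul_inv_eq_iff_eq_mul,
        map_pow] at h1
      exact h1.symm)
    (π h) (hh.of_dvd_nat (orderOf_map_dvd π h)) (π d) (mem_map_of_mem π hd)
  rw [← hker, map_mul, map_mul, map_mul, map_inv, map_inv, hmain.eq]
  group

variable {G : Type u} [Group G] [Finite G] {I₁ I₂ : Set G}

/-- For `x ∈ I₁`, `y ∈ I₂` commuting, `x` is central modulo the core of `C(xy)`. -/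
theorem Ctx.isolated (c : Ctx I₁ I₂) {x y : G} (hx : x ∈ I₁) (hy : y ∈ I₂) (hxy : Commute x y)
    {g : G} (hg : Commute g (x * y)) : x * g * x⁻¹ * g⁻¹ ∈ coreCent ({x * y} : Set G) := by
  set C := centralizer ({x * y} : Set G) with hC
  have hxC : x ∈ C := mem_centralizer_singleton_iff.2 ((Commute.refl x).mul_right hxy).eq
  have hyC : y ∈ C := mem_centralizer_singleton_iff.2 (hxy.symm.mul_right (Commute.refl y)).eq
  obtain ⟨T, P, P₁, P₂, h, hQP, hT⟩ := c.exists_local (C := C) (Q := closure {x, y})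
    ((closure_le _).2 (by rintro a (rfl | rfl) <;> assumption))
    (isPGroup_pair (c.sq₁ hx) (c.sq₂ hy) hxy)
  have hxP : x ∈ (P : Subgroup G) := hQP (subset_closure (Or.inl rfl))
  have hyP : y ∈ (P : Subgroup G) := hQP (subset_closure (Or.inr rfl))
  have hx2 : orderOf (⟨x, hxC⟩ : C) = 2 := by rw [Subgroup.orderOf_mk, c.inv₁ x hx]
  have hxT : (⟨x, hxC⟩ : C) ∈ T := by
    show _ ∈ (T : Subgroup C)
    rw [hT]; exact mem_subgroupOf.2 hxP
  refine mem_map_of_mem C.subtype (CfsgLib.ZStar.mem_oddCore_of_sylow T hx2 hxT (fun k hk => ?_)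
    ⟨g, mem_centralizer_singleton_iff.2 hg.eq⟩)
  refine Subtype.ext ?_
  have hkP : (k : G) * x * (k : G)⁻¹ ∈ (P : Subgroup G) := by
    have : k * ⟨x, hxC⟩ * k⁻¹ ∈ (T : Subgroup C) := hk
    rw [hT] at this
    exact mem_subgroupOf.1 this
  show (k : G) * x * (k : G)⁻¹ = x
  set x' := (k : G) * x * (k : G)⁻¹
  have hx1 := h.mem_left (c.conj₁ x hx k) hkP
  have hy' : (k : G) * y * (k : G)⁻¹ = x' * (x * y) := by
    have hk' : (k : G) * (x * y) = (x * y) * k := mem_centralizer_singleton_iff.1 k.2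
    calc (k : G) * y * (k : G)⁻¹ = (k : G) * (x⁻¹ * (x * y)) * (k : G)⁻¹ := by group
      _ = (k : G) * x⁻¹ * (k : G)⁻¹ * ((k : G) * (x * y) * (k : G)⁻¹) := by group
      _ = x' * (x * y) := by rw [involution_inv (c.inv₁ x hx), hk', mul_inv_cancel_right]
  have hy2 : (k : G) * y * (k : G)⁻¹ ∈ P₂ :=
    h.mem_right (c.conj₂ y hy k) (hy' ▸ mul_mem hkP (mul_mem hxP hyP))
  have hmem : x' * x ∈ P₂ := by
    have h2 : x' * x = (k : G) * y * (k : G)⁻¹ * y⁻¹ := by rw [hy']; group
    rw [h2]
    exact mul_mem hy2 (inv_mem (h.mem_right hy hyP))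
  have := h.eq_one (mul_mem hx1 (h.mem_left hx hxP)) hmem
  exact (mul_eq_one_iff_eq_inv.1 this).trans (involution_inv (c.inv₁ x hx))

/-- Odd elements of `C(a)`, `a = x` or `a = x y`, centralise `C(x) ∩ P₁` modulo the core. -/
theorem Ctx.odd_mod (c : Ctx I₁ I₂) {x y : G} (hx : x ∈ I₁)
    (hy : y = 1 ∨ y ∈ I₂ ∧ Commute x y) {P : Sylow 2 G} {P₁ P₂ : Subgroup G}
    (h : Split I₁ I₂ P P₁ P₂) (hxP : x ∈ (P : Subgroup G)) (hyP : y ∈ (P : Subgroup G))
    (T : Sylow 2 (centralizer ({x * y} : Set G)))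
    (hT : (T : Subgroup (centralizer ({x * y} : Set G))) = (P : Subgroup G).subgroupOf _)
    {g : G} (hg : Commute g (x * y)) (hgo : Odd (orderOf g)) {d : G} (hd : d ∈ P₁)
    (hdx : Commute d x) : g * d * g⁻¹ * d⁻¹ ∈ coreCent ({x * y} : Set G) := by
  have hyP2 : y ∈ P₂ := by
    rcases hy with rfl | ⟨hy, -⟩
    · exact one_mem _
    · exact h.mem_right hy hyP
  obtain ⟨n, r, R, hr, s, hs, hsr⟩ := h.dih₁.cen_rot (h.mem_left hx hxP) (c.inv₁ x hx)
  have hDC : ∀ e ∈ P₁ ⊓ centralizer ({x} : Set G), e ∈ (centralizer ({x * y} : Set G)) := fun e he =>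
    mem_centralizer_singleton_iff.2
      ((show Commute e x from mem_centralizer_singleton_iff.1 he.2).mul_right (h.commute he.1 hyP2)).eq
  set D := (P₁ ⊓ centralizer ({x} : Set G)).subgroupOf (centralizer ({x * y} : Set G)) with hD
  have R' : Rot D n (⟨r, hDC r R.mem⟩ : (centralizer ({x * y} : Set G))) := by
    have hzp : ∀ e : (centralizer ({x * y} : Set G)), e ∈ zpowers (⟨r, hDC r R.mem⟩ : (centralizer ({x * y} : Set G))) ↔ (e : G) ∈ zpowers r := fun e => by
      simp only [mem_zpowers_iff, Subtype.ext_iff, SubgroupClass.coe_zpow]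
    refine ⟨R.pos, mem_subgroupOf.2 R.mem, by rw [Subgroup.orderOf_mk, R.order], ?_, ?_, ?_⟩
    · exact fun e he he' => Subtype.ext (R.sq _ (mem_subgroupOf.1 he) fun h' => he' ((hzp e).2 h'))
    · exact fun e he he' => Subtype.ext (R.inv _ (mem_subgroupOf.1 he) fun h' => he' ((hzp e).2 h'))
    · exact fun e he he' f hf hf' => (hzp _).2 (R.two _ (mem_subgroupOf.1 he)
        (fun h' => he' ((hzp e).2 h')) _ (mem_subgroupOf.1 hf) fun h' => hf' ((hzp f).2 h'))
  have hzpD : ∀ e : (centralizer ({x * y} : Set G)),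
      e ∈ zpowers (⟨r, hDC r R.mem⟩ : (centralizer ({x * y} : Set G))) → (e : G) ∈ zpowers r := fun e he => by
    rw [mem_zpowers_iff] at he ⊢
    obtain ⟨i, hi⟩ := he
    exact ⟨i, by rw [← hi, SubgroupClass.coe_zpow]⟩
  have hxiso : ∀ k : G, Commute k (x * y) → x * k * x⁻¹ * k⁻¹ ∈ coreCent ({x * y} : Set G) := by
    intro k hk
    rcases hy with rfl | ⟨hy, hxy⟩
    · rw [mul_one] at hk
      rw [hk.eq.symm, mul_inv_cancel_right, mul_inv_cancel]
      exact one_mem _
    · exact c.isolated hx hy hxy hk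
  have hinT : ∀ e : (centralizer ({x * y} : Set G)), e ∈ (T : Subgroup (centralizer ({x * y} : Set G))) ↔ (e : G) ∈ (P : Subgroup G) := fun e => by
    rw [hT, mem_subgroupOf]
  have hxe : ∀ e : (centralizer ({x * y} : Set G)), e ∈ (T : Subgroup (centralizer ({x * y} : Set G))) → Commute (e : G) x := fun e he => by
    have h1 := hxiso e (mem_centralizer_singleton_iff.1 e.2)
    have h2 : x * (e : G) * x⁻¹ * (e : G)⁻¹ ∈ (P : Subgroup G) :=
      mul_mem (mul_mem (mul_mem hxP ((hinT e).1 he)) (inv_mem hxP)) (inv_mem ((hinT e).1 he))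
    have h3 : x * (e : G) * x⁻¹ * (e : G)⁻¹ ∈ (P : Subgroup G) ⊓ coreCent ({x * y} : Set G) := ⟨h2, h1⟩
    rw [inf_eq_bot_of_coprime ((IsPGroup.iff_card.1 P.2).choose_spec ▸
      ((Nat.coprime_two_left.2 (CfsgLib.FTDep.coreCent_odd _)).pow_left _)), mem_bot,
      mul_inv_eq_one, mul_inv_eq_iff_eq_mul] at h3
    exact h3.symm
  have F : Fac (T : Subgroup (centralizer ({x * y} : Set G))) D (P₂.subgroupOf _) := by
    refine ⟨fun e he => (hinT e).2 (h.le₁ (inf_le_left (b := centralizer ({x} : Set G)) (mem_subgroupOf.1 he))),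
      fun e he => (hinT e).2 (h.le₂ (mem_subgroupOf.1 he)),
      fun e he v hv => Subtype.ext (h.commute (inf_le_left (b := centralizer ({x} : Set G))
        (mem_subgroupOf.1 he)) (mem_subgroupOf.1 hv)).eq,
      fun v hv hv' => Subtype.ext (h.eq_one (inf_le_left (b := centralizer ({x} : Set G))
        (mem_subgroupOf.1 hv)) (mem_subgroupOf.1 hv')), fun t ht => ?_, fun e he he2 k hk => ?_⟩
    · obtain ⟨u, hu, v, hv, htuv⟩ := h.exists_mul ((hinT t).1 ht)
      have hux : Commute u x := by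
        have h1 := hxe t ht
        have h2 : Commute v x := (h.commute (h.mem_left hx hxP) hv).symm
        have e' : u = (t : G) * v⁻¹ := by rw [htuv, mul_inv_cancel_right]
        rw [e']
        exact h1.mul_left h2.inv_left
      have huD : u ∈ P₁ ⊓ centralizer ({x} : Set G) := ⟨hu, mem_centralizer_singleton_iff.2 hux.eq⟩
      exact ⟨⟨u, hDC u huD⟩, mem_subgroupOf.2 huD, ⟨u, hDC u huD⟩⁻¹ * t,
        mem_subgroupOf.2 (by
          show u⁻¹ * (t : G) ∈ P₂
          rw [htuv, inv_mul_cancel_left]; exact hv), by group⟩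
    · refine mem_subgroupOf.2 ⟨?_, mem_centralizer_singleton_iff.2 (hxe _ hk).eq⟩
      have he' : (e : G) ∈ P₁ ⊓ centralizer ({x} : Set G) := mem_subgroupOf.1 he
      by_cases he1 : (e : G) = 1
      · show (k : G) * e * (k : G)⁻¹ ∈ P₁
        rw [he1, mul_one, mul_inv_cancel]; exact one_mem _
      · exact h.mem_left (c.conj₁ _ (h.mem_class he'.1
          (orderOf_eq_two_of he1 (congrArg Subtype.val he2))) k) ((hinT _).1 hk)
  have hdC : d ∈ (centralizer ({x * y} : Set G)) := hDC d ⟨hd, mem_centralizer_singleton_iff.2 hdx.eq⟩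
  exact mem_map_of_mem (centralizer ({x * y} : Set G)).subtype (odd_centralizes_mod T
    F R' ⟨⟨s, hDC s hs⟩, mem_subgroupOf.2 hs, fun hm => hsr (hzpD _ hm)⟩
    (fun k => by
      obtain ⟨w, hw, hwe⟩ := hxiso k (mem_centralizer_singleton_iff.1 k.2)
      refine (congrArg (· ∈ oddCore _) (Subtype.ext ?_ : w = _)).mp hw
      simp only [coe_mul, coe_inv, SubgroupClass.coe_pow, hr]
      exact hwe)
    (h := ⟨g, mem_centralizer_singleton_iff.2 hg.eq⟩) (by rwa [Subgroup.orderOf_mk])
    (d := ⟨d, hdC⟩) (mem_subgroupOf.2 ⟨hd, mem_centralizer_singleton_iff.2 hdx.eq⟩))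

end CfsgLib.TwoFusion.DihedralProduct
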