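import Cfsg.Agent.Lib.TwoFusion.DihedralProduct.Product

/-!
# The classes of two strongly closed dihedral factors
-/

set_option autoImplicit false

namespace CfsgLib.TwoFusion.DihedralProduct

open Subgroup Cfsg
open CfsgLib.Signalizer (orderOf_conj)

universe u

variable {G : Type u} [Group G]

/-- The conjugates of the involutions of a subgroup. -/
def involClass (D : Subgroup G) : Set G := {x | orderOf x = 2 ∧ ∃ g : G, g * x * g⁻¹ ∈ D}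

theorem involClass_conj {D : Subgroup G} {x : G} (hx : x ∈ involClass D) (g : G) :
    g * x * g⁻¹ ∈ involClass D := by
  obtain ⟨h2, k, hk⟩ := hx
  refine ⟨by rw [orderOf_conj]; exact h2, k * g⁻¹, ?_⟩
  rw [show k * g⁻¹ * (g * x * g⁻¹) * (k * g⁻¹)⁻¹ = k * x * k⁻¹ by group]
  exact hk

theorem mem_involClass_iff {P D : Subgroup G} (hcl : IsStronglyClosed D P) {x : G} (hx : x ∈ P) :
    x ∈ involClass D ↔ orderOf x = 2 ∧ x ∈ D := by
  refine ⟨fun ⟨h2, g, hg⟩ => ⟨h2, ?_⟩, fun ⟨h2, hD⟩ => ⟨h2, 1, by simpa using hD⟩⟩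
  have e : g⁻¹ * (g * x * g⁻¹) * g⁻¹⁻¹ = x := by group
  have := hcl.2 _ hg g⁻¹ (by rw [e]; exact hx)
  rwa [e] at this

theorem smul_coe (S : Sylow 2 G) (g : G) :
    ((g • S : Sylow 2 G) : Subgroup G) = (S : Subgroup G).map (MulAut.conj g).toMonoidHom := by
  ext x
  rw [Sylow.coe_subgroup_smul, mem_pointwise_smul_iff_inv_smul_mem, CfsgLib.Techniques.mem_map_conj_iff]
  simp [MulAut.smul_def, MulAut.conj_apply]

theorem Split.conj {I₁ I₂ : Set G} (h₁ : ∀ x ∈ I₁, ∀ g : G, g * x * g⁻¹ ∈ I₁)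
    (h₂ : ∀ x ∈ I₂, ∀ g : G, g * x * g⁻¹ ∈ I₂) {S : Sylow 2 G} {S₁ S₂ : Subgroup G}
    (h : Split I₁ I₂ S S₁ S₂) (g : G) :
    Split I₁ I₂ (g • S) (S₁.map (MulAut.conj g).toMonoidHom) (S₂.map (MulAut.conj g).toMonoidHom) := by
  set f := (MulAut.conj g).toMonoidHom with hf
  have hfi : Function.Injective f := (MulAut.conj g).injective
  have hmem : ∀ {I : Set G} {D : Subgroup G}, (∀ x ∈ I, ∀ k : G, k * x * k⁻¹ ∈ I) →
      (∀ x ∈ (S : Subgroup G), (x ∈ I ↔ orderOf x = 2 ∧ x ∈ D)) →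
      ∀ x ∈ (S : Subgroup G).map f, (x ∈ I ↔ orderOf x = 2 ∧ x ∈ D.map f) := by
    rintro I D hI hD _ ⟨x, hx, rfl⟩
    rw [orderOf_injective f hfi, mem_map_iff_mem hfi, ← hD x hx]
    refine ⟨fun h' => ?_, fun h' => hI x h' g⟩
    have e : g⁻¹ * f x * g⁻¹⁻¹ = x := by
      show g⁻¹ * (g * x * g⁻¹) * g⁻¹⁻¹ = x
      group
    exact e ▸ hI _ h' g⁻¹
  refine ⟨⟨?_, ?_, ?_, ?_, ?_⟩, h.dih₁.congr_map f hfi, h.dih₂.congr_map f hfi, ?_, ?_⟩
  · rw [smul_coe]; exact map_mono h.le₁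
  · rw [smul_coe]; exact map_mono h.le₂
  · rintro _ ⟨a, ha, rfl⟩ _ ⟨b, hb, rfl⟩
    exact ((h.commute ha hb).map f).eq
  · rw [← Subgroup.map_inf _ _ f hfi, h.prod.2.2.2.1, Subgroup.map_bot]
  · rw [← Subgroup.map_sup, h.prod.2.2.2.2, smul_coe]
  · intro x hx; rw [smul_coe] at hx; exact hmem h₁ h.mem₁ x hx
  · intro x hx; rw [smul_coe] at hx; exact hmem h₂ h.mem₂ x hx

variable [Finite G]

/-- A split Sylow subgroup for the classes of its factors gives the standing data. -/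
theorem ctx_of_split {S : Sylow 2 G} {S₁ S₂ : Subgroup G}
    (h : Split (involClass S₁) (involClass S₂) S S₁ S₂) : Ctx (involClass S₁) (involClass S₂) := by
  haveI : Fact (Nat.Prime 2) := ⟨Nat.prime_two⟩
  refine ⟨fun x hx => hx.1, fun x hx => hx.1, fun x hx => involClass_conj hx,
    fun x hx => involClass_conj hx, fun Q hQ => ?_⟩
  obtain ⟨g, hg⟩ := CfsgLib.Techniques.exists_conj_mem_sylow S hQ
  refine ⟨g⁻¹ • S, _, _, fun q hq => ?_,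
    h.conj (fun x hx => involClass_conj hx) (fun x hx => involClass_conj hx) g⁻¹⟩
  rw [smul_coe, CfsgLib.Techniques.mem_map_conj_iff, inv_inv]
  exact hg q hq

theorem exists_two_pow {D : Subgroup G} (hP : IsPGroup 2 D) {m : ℕ} (hm : 2 ≤ m)
    (e : D ≃* DihedralGroup m) : ∃ n, 1 ≤ n ∧ m = 2 ^ n := by
  haveI : Fact (Nat.Prime 2) := ⟨Nat.prime_two⟩
  obtain ⟨k, hk⟩ := IsPGroup.iff_card.1 hP
  rw [Nat.card_congr e.toEquiv, DihedralGroup.nat_card] at hk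
  obtain ⟨n, -, rfl⟩ := (Nat.dvd_prime_pow Nat.prime_two).1 (Dvd.intro_left 2 hk)
  exact ⟨n, Nat.one_le_iff_ne_zero.2 fun h => by simp [h] at hm, rfl⟩

/-- Dihedral factors cut out by two classes of involutions, one of order at least eight. -/
theorem factorization_of_split (hO : oddCore G = ⊥) (hO' : ∀ N : Subgroup G, N.Normal → Odd N.index → N = ⊤)
    (S : Sylow 2 G) (hS : ¬ IsMulCommutative (S : Subgroup G)) {S₁ S₂ : Subgroup G}
    (hprod : IsInternalDirectProduct S₁ S₂ (S : Subgroup G)) {m₁ m₂ : ℕ} (hm₁ : 2 ≤ m₁) (hm₂ : 2 ≤ m₂)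
    (e₁ : S₁ ≃* DihedralGroup m₁) (e₂ : S₂ ≃* DihedralGroup m₂)
    (h : Split (involClass S₁) (involClass S₂) S S₁ S₂) :
    ∃ G₁ G₂ : Subgroup G, G₁.Normal ∧ G₂.Normal ∧ IsInternalDirectProduct G₁ G₂ ⊤ ∧ S₁ ≤ G₁ ∧ S₂ ≤ G₂ ∧
      Odd (S₁.relIndex G₁) ∧ Odd (S₂.relIndex G₂) := by
  have c := ctx_of_split h
  refine c.exists_product h hO hO' fun x hx y hy => ?_
  obtain ⟨n₁, hn₁, rfl⟩ := exists_two_pow (S.2.to_le hprod.1) hm₁ e₁
  obtain ⟨n₂, hn₂, rfl⟩ := exists_two_pow (S.2.to_le hprod.2.1) hm₂ e₂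
  obtain ⟨z₁, hz₁, hz₁2, hz₁c⟩ := h.dih₁.exists_center
  obtain ⟨z₂, hz₂, hz₂2, hz₂c⟩ := h.dih₂.exists_center
  have B : Base (involClass S₁) (involClass S₂) S S₁ S₂ z₁ z₂ :=
    ⟨c, h, hz₁, hz₁2, hz₁c, hz₂, hz₂2, hz₂c⟩
  have B' : Base (involClass S₂) (involClass S₁) S S₂ S₁ z₂ z₁ :=
    ⟨c.swap, h.swap, hz₂, hz₂2, hz₂c, hz₁, hz₁2, hz₁c⟩
  by_cases h1 : 2 ≤ n₁
  · exact B.commute_all hO h1 e₁ hx hy
  by_cases h2 : 2 ≤ n₂
  · exact (B'.commute_all hO h2 e₂ hy hx).symm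
  exfalso
  have hab : ∀ {D : Subgroup G} {n : ℕ}, n = 1 → (D ≃* DihedralGroup (2 ^ n)) →
      ∀ a ∈ D, ∀ b ∈ D, Commute a b := by
    intro D n hn e a ha b hb
    subst hn
    have hd : ∀ u v : DihedralGroup (2 ^ 1), u * v = v * u := by decide
    exact congrArg Subtype.val (e.injective (by rw [map_mul, map_mul, hd]) :
      (⟨a, ha⟩ : D) * ⟨b, hb⟩ = ⟨b, hb⟩ * ⟨a, ha⟩)
  refine hS ⟨⟨fun s t => Subtype.ext ?_⟩⟩
  obtain ⟨u, hu, v, hv, hs⟩ := h.exists_mul s.2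
  obtain ⟨u', hu', v', hv', ht⟩ := h.exists_mul t.2
  have k1 := hab (by omega : n₁ = 1) e₁ u hu u' hu'
  have k2 := hab (by omega : n₂ = 1) e₂ v hv v' hv'
  show (s : G) * t = t * s
  rw [hs, ht]
  exact ((k1.mul_right (h.commute hu hv')).mul_left ((h.commute hu' hv).symm.mul_right k2)).eq

/-- Strongly closed dihedral factors, one of order at least eight. -/
theorem factorization (hO : oddCore G = ⊥) (hO' : ∀ N : Subgroup G, N.Normal → Odd N.index → N = ⊤)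
    (S : Sylow 2 G) (hS : ¬ IsMulCommutative (S : Subgroup G)) {S₁ S₂ : Subgroup G}
    (hprod : IsInternalDirectProduct S₁ S₂ (S : Subgroup G)) {m₁ m₂ : ℕ} (hm₁ : 2 ≤ m₁) (hm₂ : 2 ≤ m₂)
    (e₁ : S₁ ≃* DihedralGroup m₁) (e₂ : S₂ ≃* DihedralGroup m₂)
    (hcl₁ : IsStronglyClosed S₁ (S : Subgroup G)) (hcl₂ : IsStronglyClosed S₂ (S : Subgroup G)) :
    ∃ G₁ G₂ : Subgroup G, G₁.Normal ∧ G₂.Normal ∧ IsInternalDirectProduct G₁ G₂ ⊤ ∧ S₁ ≤ G₁ ∧ S₂ ≤ G₂ ∧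
      Odd (S₁.relIndex G₁) ∧ Odd (S₂.relIndex G₂) :=
  factorization_of_split hO hO' S hS hprod hm₁ hm₂ e₁ e₂
    ⟨hprod, dih_of_equiv (S.2.to_le hprod.1) hm₁ e₁, dih_of_equiv (S.2.to_le hprod.2.1) hm₂ e₂,
      fun _ hx => mem_involClass_iff hcl₁ hx, fun _ hx => mem_involClass_iff hcl₂ hx⟩

end CfsgLib.TwoFusion.DihedralProduct
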