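import Cfsg.Agent.Lib.TwoFusion.DihedralProduct.ModCore
import Cfsg.Agent.S1330
import Cfsg.Agent.S0217

/-!
# The subgroup attached to a commuting pair

`Wc x y` for commuting `x ∈ I₁`, `y ∈ I₂`: it has odd order, is constant on pairwise commuting
quadruples, and contains `[O(C(y)), x]` and `[O(C(xy)), x]`.
-/

set_option autoImplicit false

namespace CfsgLib.TwoFusion.DihedralProduct

open Subgroup Cfsg
open CfsgLib.Signalizer (involution_sq involution_inv involution_ne_one orderOf_eq_two_of orderOf_conj)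
open CfsgLib.FTDep (coreCent coreCent_le coreCent_norm coreCent_odd mem_coreCent_of)
open scoped commutatorElement

variable {G : Type*} [Group G] [Finite G] {I₁ I₂ : Set G}

/-- `[O(C(b)), x] (O(C(b)) ∩ O(C(x)))`. -/
def Pc (b x : G) : Subgroup G :=
  ⁅coreCent ({b} : Set G), zpowers x⁆ ⊔ (coreCent ({b} : Set G) ⊓ coreCent ({x} : Set G))

/-- The subgroup of a pair. -/
def Wc (x y : G) : Subgroup G :=
  (Pc x x ⊓ Pc x y) ⊔ (Pc y x ⊓ Pc y y) ⊔ (Pc (x * y) x ⊓ Pc (x * y) y)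

theorem centralizer_le_of_mem {A : Subgroup G} {z : G} (hz : z ∈ A) :
    centralizer (A : Set G) ≤ centralizer ({z} : Set G) :=
  centralizer_le (by simpa using hz)

theorem norm_coreCent {b : G} {A : Subgroup G} (h : ∀ a ∈ A, Commute a b) :
    A ≤ normalizer (coreCent ({b} : Set G) : Set G) := fun a ha =>
  coreCent_norm _ (mem_centralizer_singleton_iff.2 (h a ha).eq)

theorem coprime_two_group {A : Subgroup G} (hA : IsPGroup 2 A) {O : Subgroup G} (hO : Odd (Nat.card O)) :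
    (Nat.card A).Coprime (Nat.card O) :=
  (IsPGroup.iff_card.1 hA).choose_spec ▸ (Nat.coprime_two_left.2 hO).pow_left _

/-- Modulo `O(C(z))`, odd elements of `C(z)` centralise `I₁ ∩ C(z)`, for `z ∈ I₁`. -/
theorem Ctx.odd_pair (c : Ctx I₁ I₂) {z d : G} (hz : z ∈ I₁) (hd : d * d = 1) (hd' : d = 1 ∨ d ∈ I₁)
    (hzd : Commute z d) {g : G} (hg : Commute g z) (hgo : Odd (orderOf g)) :
    g * d * g⁻¹ * d⁻¹ ∈ coreCent ({z} : Set G) := by
  have key : g * d * g⁻¹ * d⁻¹ ∈ coreCent ({z * 1} : Set G) := by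
    obtain ⟨T, P, P₁, P₂, h, hQP, hT⟩ := c.exists_local (C := centralizer ({z * 1} : Set G))
      (Q := closure {z, d}) ((closure_le _).2 (by
        rintro a (rfl | rfl) <;> refine mem_centralizer_singleton_iff.2 ?_ <;> simp only [mul_one]
        exact hzd.eq.symm))
      (isPGroup_pair (c.sq₁ hz) hd hzd)
    have hdP : d ∈ P₁ := by
      rcases hd' with rfl | hd'
      · exact one_mem _
      · exact h.mem_left hd' (hQP (subset_closure (Or.inr rfl)))
    exact c.odd_mod hz (Or.inl rfl) h (hQP (subset_closure (Or.inl rfl))) (one_mem _) T hT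
      (by rwa [mul_one]) hgo hdP hzd.symm
  rwa [mul_one] at key

/-- The core of the centraliser of a four-group. -/
theorem Ctx.coreCent_four (c : Ctx I₁ I₂) {x x' : G} (hx : x ∈ I₁) (hx' : x' ∈ I₁) (hne : x ≠ x')
    (hc : Commute x x') {z : G} (hz : z ∈ closure ({x, x'} : Set G)) (hz1 : z ≠ 1) :
    coreCent ((closure ({x, x'} : Set G) : Subgroup G) : Set G) =
      coreCent ({z} : Set G) ⊓ centralizer ((closure ({x, x'} : Set G) : Subgroup G) : Set G) := by
  set A := closure ({x, x'} : Set G) with hA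
  have hzI := c.mem_four hx hx' hne hc hz hz1
  have hAel := isElementaryAbelian_pair (c.sq₁ hx) (c.sq₁ hx') hc
  have hAz : ∀ a ∈ A, Commute a z := fun a ha => congrArg Subtype.val (hAel.1.1.comm ⟨a, ha⟩ ⟨z, hz⟩)
  have hCle : centralizer (A : Set G) ≤ centralizer ({z} : Set G) := centralizer_le_of_mem hz
  refine le_antisymm (le_inf ?_ (coreCent_le _)) ?_
  · set K := coreCent (A : Set G) with hK
    set Oz := coreCent ({z} : Set G) with hOz
    set Cz := centralizer ({z} : Set G) with hCz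
    set R := closure {g : G | g ∈ Cz ∧ Odd (orderOf g)} with hR
    have hKCz : K ≤ Cz := (coreCent_le _).trans hCle
    have hRC : R ≤ Cz := (closure_le _).2 fun g hg => hg.1
    have hoddR : ∀ B : Subgroup G, B ≤ Cz → Odd (Nat.card B) → B ≤ R := fun B hB ho b hb =>
      subset_closure ⟨hB hb, ho.of_dvd_nat (Subgroup.orderOf_dvd_natCard _ hb)⟩
    have hRn : Cz ≤ normalizer (R : Set G) := by
      rw [le_normalizer_iff]
      intro k hk v hv
      have hle : R.map (MulAut.conj k).toMonoidHom ≤ R := by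
        rw [hR, MonoidHom.map_closure]
        refine closure_mono ?_
        rintro _ ⟨g, hg, rfl⟩
        exact ⟨show k * g * k⁻¹ ∈ Cz from mul_mem (mul_mem hk hg.1) (inv_mem hk),
          show Odd (orderOf (k * g * k⁻¹)) by rw [orderOf_conj]; exact hg.2⟩
      exact hle (mem_map_of_mem _ hv)
    have hAn : A ≤ normalizer (Oz : Set G) := norm_coreCent hAz
    have hRle : R ≤ Oz ⊔ centralizer (A : Set G) := by
      refine (closure_le _).2 ?_
      rintro g ⟨hg, hgo⟩
      obtain ⟨n, hn, h⟩ := CfsgLib.Core.exists_centralizing_in_coset hAn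
        (coprime_two_group (isPGroup_pair (c.sq₁ hx) (c.sq₁ hx') hc) (coreCent_odd _))
        (Or.inl (Group.isSolvable_of_comm fun a b => hAel.1.1.comm a b)) (k := g) (by
          intro d hd
          have hd' : d = 1 ∨ d ∈ I₁ := or_iff_not_imp_left.2 fun h => c.mem_four hx hx' hne hc hd h
          have hw := c.odd_pair hzI (by rw [← pow_two]; exact hAel.2 d hd) hd' (hAz d hd).symm
            (mem_centralizer_singleton_iff.1 hg) hgo
          have := (mem_normalizer_iff.1 (coreCent_norm _ (inv_mem hg)) _).1 (inv_mem hw)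
          rw [show g⁻¹ * (g * d * g⁻¹ * d⁻¹)⁻¹ * g⁻¹⁻¹ = g⁻¹ * (d * g * d⁻¹) by group] at this
          exact this)
      have := mul_mem (mem_sup_right (S := Oz) h) (mem_sup_left (T := centralizer (A : Set G)) (inv_mem hn))
      simpa using this
    have hOzK : Oz ≤ normalizer (K ⊔ Oz : Subgroup G) := le_sup_right.trans le_normalizer
    have hKn : K ≤ normalizer (Oz : Set G) := hKCz.trans (coreCent_norm _)
    have hKodd : Odd (Nat.card K) := coreCent_odd _
    have hsupodd : Odd (Nat.card (K ⊔ Oz : Subgroup G)) :=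
      (hKodd.mul (coreCent_odd _)).of_dvd_nat (CfsgLib.Core.card_sup_dvd K Oz hKn)
    have hsupC : K ⊔ Oz ≤ Cz := sup_le hKCz (coreCent_le _)
    have hsupR : K ⊔ Oz ≤ R := hoddR _ hsupC hsupodd
    have hRnorm : R ≤ normalizer (K ⊔ Oz : Subgroup G) := by
      refine hRle.trans (sup_le hOzK ?_)
      exact le_trans (le_inf (coreCent_norm _) (hCle.trans (coreCent_norm _)))
        (normalizer_inf_normalizer_le_normalizer_sup K Oz)
    intro k hk
    haveI : ((K ⊔ Oz).subgroupOf R).Normal := (normal_subgroupOf_iff_le_normalizer hsupR).2 hRnorm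
    haveI : (R.subgroupOf Cz).Normal := (normal_subgroupOf_iff_le_normalizer hRC).2 hRn
    have h1 : (K ⊔ Oz).subgroupOf R ≤ oddCore R := CfsgLib.ZStar.le_oddCore inferInstance
      (by rwa [Nat.card_congr (subgroupOfEquivOfLe hsupR).toEquiv])
    have hkR : k ∈ R := hsupR (mem_sup_left hk)
    let e := subgroupOfEquivOfLe hRC
    have h2 : e.symm ⟨k, hkR⟩ ∈ oddCore (R.subgroupOf Cz) := by
      have h3 := CfsgLib.Core.map_equiv_pPrimeCore (p := 2) e.symm
      exact h3.le (mem_map_of_mem _ (h1 (mem_subgroupOf.2 (mem_sup_left hk))))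
    exact mem_map_of_mem Cz.subtype (CfsgLib.Core.map_subtype_pPrimeCore_le (p := 2) (R.subgroupOf Cz)
      (mem_map_of_mem _ h2))
  · intro u hu
    exact mem_coreCent_of hu.2 (Q := coreCent ({z} : Set G) ⊓ centralizer (A : Set G)) inf_le_right
      ((le_inf (hCle.trans (coreCent_norm _)) le_normalizer).trans inf_normalizer_le_normalizer_inf)
      ((coreCent_odd _).of_dvd_nat (card_dvd_of_le inf_le_left)) hu

/-- The first factor of the functor depends on any one involution of the four-group. -/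
theorem Ctx.pc_four (c : Ctx I₁ I₂) {x x' : G} (hx : x ∈ I₁) (hx' : x' ∈ I₁) (hne : x ≠ x')
    (hc : Commute x x') {z b : G} (hz : z ∈ closure ({x, x'} : Set G)) (hz1 : z ≠ 1)
    (hb : ∀ a ∈ closure ({x, x'} : Set G), Commute a b) :
    ⁅coreCent ({b} : Set G), closure ({x, x'} : Set G)⁆ ⊔
      (coreCent ({b} : Set G) ⊓ coreCent ((closure ({x, x'} : Set G) : Subgroup G) : Set G)) = Pc b z := by
  rw [c.coreCent_four hx hx' hne hc hz hz1]
  set A := closure ({x, x'} : Set G) with hA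
  set Ob := coreCent ({b} : Set G) with hOb
  have hzI := c.mem_four hx hx' hne hc hz hz1
  have hAel := isElementaryAbelian_pair (c.sq₁ hx) (c.sq₁ hx') hc
  have hAz : ∀ a ∈ A, Commute a z := fun a ha => congrArg Subtype.val (hAel.1.1.comm ⟨a, ha⟩ ⟨z, hz⟩)
  have hzA : zpowers z ≤ A := zpowers_le.2 hz
  have hAn : A ≤ normalizer (Ob : Set G) := norm_coreCent hb
  have hP2 : IsPGroup 2 A := isPGroup_pair (c.sq₁ hx) (c.sq₁ hx') hc
  have hAn' : A ≤ normalizer ((Ob ⊓ coreCent ({z} : Set G) : Subgroup G) : Set G) :=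
    (le_inf hAn (norm_coreCent hAz)).trans inf_normalizer_le_normalizer_inf
  refine le_antisymm (sup_le ?_ (inf_le_inf le_rfl inf_le_left |>.trans le_sup_right))
    (sup_le ((commutator_mono le_rfl hzA).trans le_sup_left) ?_)
  · rw [commutator_le]
    intro u hu d hd
    obtain ⟨v, hv, w, hw, rfl⟩ := CfsgLib.Core.exists_mul_centralizing (A := zpowers z) (K := Ob)
      (hzA.trans hAn) (coprime_two_group (hP2.to_le hzA) (coreCent_odd _))
      (Or.inl inferInstance) hu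
    have hPv : v ∈ Pc b z := mem_sup_left hv
    have hwz : Commute w z := (mem_centralizer_iff.1 hw.2 z (mem_zpowers z)).symm
    have hwd : ⁅w, d⁆ ∈ Pc b z := by
      refine mem_sup_right ⟨?_, ?_⟩
      · rw [commutatorElement_def, mul_assoc w d, mul_assoc]
        exact mul_mem hw.1 (CfsgLib.Core.conj_mem_of_le_normalizer hAn hd (inv_mem hw.1))
      · rw [commutatorElement_def]
        exact c.odd_pair hzI (by rw [← pow_two]; exact hAel.2 d hd)
          (or_iff_not_imp_left.2 fun h => c.mem_four hx hx' hne hc hd h) (hAz d hd).symm hwz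
          ((coreCent_odd _).of_dvd_nat (Subgroup.orderOf_dvd_natCard _ hw.1))
    have hvd : ⁅v, d⁆ ∈ Pc b z := by
      rw [commutatorElement_def, mul_assoc v d, mul_assoc]
      refine mul_mem hPv (mem_sup_left ?_)
      have hdn : d ∈ normalizer ((⁅Ob, zpowers z⁆ : Subgroup G) : Set G) := by
        refine (?_ : A ≤ _) hd
        rw [le_normalizer_iff]
        intro a ha q hq
        have hle : (⁅Ob, zpowers z⁆).map (MulAut.conj a).toMonoidHom ≤ ⁅Ob, zpowers z⁆ := by
          rw [map_commutator]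
          refine commutator_mono ?_ ?_
          · rintro _ ⟨o, ho, rfl⟩
            exact CfsgLib.Core.conj_mem_of_le_normalizer hAn ha ho
          · rw [MonoidHom.map_zpowers, zpowers_le]
            show a * z * a⁻¹ ∈ zpowers z
            rw [(hAz a ha).eq, mul_inv_cancel_right]
            exact mem_zpowers z
        exact hle (mem_map_of_mem _ hq)
      exact (mem_normalizer_iff.1 hdn _).1 (inv_mem hv)
    rw [commutatorElement_mul_left_eq_conj_mul]
    exact mul_mem (mul_mem (mul_mem hPv hwd) (inv_mem hPv)) hvd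
  · intro u hu
    obtain ⟨v, hv, w, hw, rfl⟩ := CfsgLib.Core.exists_mul_centralizing (A := A)
      (K := Ob ⊓ coreCent ({z} : Set G)) hAn'
      (coprime_two_group hP2 ((coreCent_odd _).of_dvd_nat (card_dvd_of_le inf_le_left)))
      (Or.inl (Group.isSolvable_of_comm fun a b => hAel.1.1.comm a b)) hu
    exact mul_mem (mem_sup_left (commutator_mono inf_le_left le_rfl hv))
      (mem_sup_right ⟨hw.1.1, hw.1.2, hw.2⟩)

/-- One odd subgroup is `Wc` of every pair in a quadruple. -/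
theorem Quad.exists_W (c : Ctx I₁ I₂) {x x' y y' : G} (q : Quad I₁ I₂ x x' y y') :
    ∃ W : Subgroup G, Odd (Nat.card W) ∧
      ∀ u ∈ closure ({x, x'} : Set G), u ≠ 1 → ∀ v ∈ closure ({y, y'} : Set G), v ≠ 1 → Wc u v = W := by
  haveI : Fact (Nat.Prime 2) := ⟨Nat.prime_two⟩
  set A₁ := closure ({x, x'} : Set G) with hA₁
  set A₂ := closure ({y, y'} : Set G) with hA₂
  have hcs := q.coreSeparated c
  rw [← hA₁, ← hA₂] at hcs
  obtain ⟨hθC, hθo, hθinv, hbal⟩ := Cfsg.Agent.S1330.result A₁ A₂ hcs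
  set θ : G → Subgroup G := fun a =>
    (⁅centralizerPPrimeCore 2 a, A₁⁆ ⊔ (centralizerPPrimeCore 2 a ⊓ coreCent (A₁ : Set G))) ⊓
      (⁅centralizerPPrimeCore 2 a, A₂⁆ ⊔ (centralizerPPrimeCore 2 a ⊓ coreCent (A₂ : Set G))) with hθ
  have hodd : ∀ a ∈ A₁ ⊔ A₂, a ≠ 1 → Odd (Nat.card (θ a)) := fun a ha ha1 =>
    Nat.not_even_iff_odd.1 fun h => hθo a ha ha1 (even_iff_two_dvd.1 h)
  obtain ⟨⟨hc1, he1⟩, ⟨hc2, he2⟩, hk1, hk2, -, hinf, hcomm, -⟩ := hcs
  have hn12 : A₁ ≤ normalizer (A₂ : Set G) := fun u hu =>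
    centralizer_le_normalizer _ (mem_centralizer_iff.2 fun v hv => (hcomm u hu v hv).symm)
  have hmul : ∀ a ∈ A₁ ⊔ A₂, ∃ u ∈ A₁, ∃ v ∈ A₂, a = u * v := fun a ha =>
    (CfsgLib.Core.mem_sup_iff_mul hn12).1 ha
  have hAcomm : ∀ a ∈ A₁ ⊔ A₂, ∀ b ∈ A₁ ⊔ A₂, a * b = b * a := by
    intro a ha b hb
    obtain ⟨u, hu, v, hv, rfl⟩ := hmul a ha
    obtain ⟨u', hu', v', hv', rfl⟩ := hmul b hb
    have e1 : Commute u u' := congrArg Subtype.val (hc1.1.comm ⟨u, hu⟩ ⟨u', hu'⟩)
    have e2 : Commute v v' := congrArg Subtype.val (hc2.1.comm ⟨v, hv⟩ ⟨v', hv'⟩)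
    exact ((e1.mul_right (hcomm u hu v' hv')).mul_left
      ((Commute.symm (hcomm u' hu' v hv)).mul_right e2)).eq
  have hAexp : ∀ a ∈ A₁ ⊔ A₂, a ^ 2 = 1 := fun a ha => by
    obtain ⟨u, hu, v, hv, rfl⟩ := hmul a ha
    rw [Commute.mul_pow (hcomm u hu v hv), he1 u hu, he2 v hv, one_mul]
  have hArank : 2 ^ 3 ≤ Nat.card ↥(A₁ ⊔ A₂) := by
    rw [CfsgLib.Core.card_sup_of_disjoint A₁ A₂ hn12 hinf, hk1, hk2]
    norm_num
  obtain ⟨hWo, hWfix⟩ := Cfsg.Agent.S0217.result (p := 2) (A₁ ⊔ A₂) hAcomm hAexp hArank θ hθC hθo hθinv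
    (fun a ha ha1 => CfsgLib.OddLocal.FTFinal.odd_order_solvable (hodd a ha ha1)) hbal
  set W := ⨆ a : {a : G // a ∈ A₁ ⊔ A₂ ∧ a ≠ 1}, θ a with hW
  refine ⟨W, Nat.not_even_iff_odd.1 fun h => hWo (even_iff_two_dvd.1 h), fun u hu hu1 v hv hv1 => ?_⟩
  have hAn : A₁ ⊔ A₂ ≤ normalizer (W : Set G) := by
    rw [le_normalizer_iff]
    intro b hb k hk
    have hle : W.map (MulAut.conj b).toMonoidHom ≤ W := by
      rw [hW, Subgroup.map_iSup]
      refine iSup_le fun a => le_trans ?_ (le_iSup _ a)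
      rintro _ ⟨k, hk, rfl⟩
      exact hθinv a a.2.1 a.2.2 b hb k hk
    exact hle (mem_map_of_mem _ hk)
  have huv : u * v ≠ 1 := fun h => by
    have hu₂ : u ∈ A₂ := by rw [mul_eq_one_iff_eq_inv.1 h]; exact A₂.inv_mem hv
    have : u ∈ A₁ ⊓ A₂ := ⟨hu, hu₂⟩
    rw [hinf, mem_bot] at this
    exact hu1 this
  have key : ∀ a ∈ A₁ ⊔ A₂, θ a = Pc a u ⊓ Pc a v := by
    intro a ha
    show (⁅coreCent ({a} : Set G), A₁⁆ ⊔ (coreCent ({a} : Set G) ⊓ coreCent (A₁ : Set G))) ⊓
      (⁅coreCent ({a} : Set G), A₂⁆ ⊔ (coreCent ({a} : Set G) ⊓ coreCent (A₂ : Set G))) = _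
    rw [c.pc_four q.x_mem q.x'_mem q.x_ne q.cx hu hu1 (fun b hb => hAcomm b (mem_sup_left hb) a ha),
      c.swap.pc_four q.y_mem q.y'_mem q.y_ne q.cy hv hv1 (fun b hb => hAcomm b (mem_sup_right hb) a ha)]
  have hmem : u ∈ A₁ ⊔ A₂ ∧ v ∈ A₁ ⊔ A₂ := ⟨mem_sup_left hu, mem_sup_right hv⟩
  have hA₀ : closure ({u, v} : Set G) ≤ A₁ ⊔ A₂ := (closure_le _).2 (by
    rintro w (rfl | rfl); exacts [hmem.1, hmem.2])
  refine le_antisymm (sup_le (sup_le ?_ ?_) ?_) ?_
  · rw [← key u hmem.1]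
    exact le_iSup (fun a : {a : G // a ∈ A₁ ⊔ A₂ ∧ a ≠ 1} => θ a) ⟨u, hmem.1, hu1⟩
  · rw [← key v hmem.2]
    exact le_iSup (fun a : {a : G // a ∈ A₁ ⊔ A₂ ∧ a ≠ 1} => θ a) ⟨v, hmem.2, hv1⟩
  · rw [← key (u * v) (mul_mem hmem.1 hmem.2)]
    exact le_iSup (fun a : {a : G // a ∈ A₁ ⊔ A₂ ∧ a ≠ 1} => θ a) ⟨u * v, mul_mem hmem.1 hmem.2, huv⟩
  · have hu2 : orderOf u = 2 := orderOf_eq_two_of hu1 (by rw [← pow_two]; exact he1 u hu)
    have hv2 : orderOf v = 2 := orderOf_eq_two_of hv1 (by rw [← pow_two]; exact he2 v hv)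
    refine CfsgLib.Signalizer.Solv.le_of_fixed_le (p := 2)
      (isElementaryAbelian_pair (involution_sq hu2) (involution_sq hv2) (hcomm u hu v hv)) ?_
      (hA₀.trans hAn) hWo fun a ha ha1 => ?_
    · rw [card_closure_pair hu2 hv2 (hcomm u hu v hv) fun h => ?_]
      · norm_num
      · exact huv (by rw [h, involution_sq hv2])
    rw [hWfix a (hA₀ ha) ha1, key a (hA₀ ha)]
    rcases mem_closure_pair_cases (involution_sq hu2) (involution_sq hv2) (hcomm u hu v hv) ha with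
      rfl | rfl | rfl | rfl
    · exact absurd rfl ha1
    · exact le_sup_of_le_left le_sup_left
    · exact le_sup_of_le_left le_sup_right
    · exact le_sup_right

theorem Wc_comm {x y : G} (h : Commute x y) : Wc x y = Wc y x := by
  unfold Wc
  rw [← h.eq, inf_comm (Pc y y), inf_comm (Pc x y), inf_comm (Pc (x * y) y)]
  exact congrArg (· ⊔ _) (sup_comm _ _)

theorem Ctx.exists_quad (c : Ctx I₁ I₂) {x y : G} (hx : x ∈ I₁) (hy : y ∈ I₂) (hxy : Commute x y) :
    ∃ x' y', Quad I₁ I₂ x x' y y' := by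
  obtain ⟨P, P₁, P₂, hP, hP', h⟩ := c.split_at_pair (c.sq₁ hx) (c.sq₂ hy) hxy
  obtain ⟨x', hx', hx2, hne, hcx⟩ := h.dih₁.exists_partner (h.mem_left hx hP) (c.inv₁ x hx)
  obtain ⟨y', hy', hy2, hne', hcy⟩ := h.dih₂.exists_partner (h.mem_right hy hP') (c.inv₂ y hy)
  exact ⟨x', y', hx, h.mem_class hx' hx2, hne.symm, hcx, hy, h.swap.mem_class hy' hy2, hne'.symm, hcy,
    hxy, h.commute (h.mem_left hx hP) hy', h.commute hx' (h.mem_right hy hP'), h.commute hx' hy'⟩

theorem Ctx.odd_Wc (c : Ctx I₁ I₂) {x y : G} (hx : x ∈ I₁) (hy : y ∈ I₂) (hxy : Commute x y) :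
    Odd (Nat.card (Wc x y)) := by
  obtain ⟨x', y', q⟩ := c.exists_quad hx hy hxy
  obtain ⟨W, hW, h⟩ := q.exists_W c
  rw [h x (subset_closure (Or.inl rfl)) (c.ne_one₁ hx) y (subset_closure (Or.inl rfl)) (c.ne_one₂ hy)]
  exact hW

theorem Ctx.Wc_eq_left (c : Ctx I₁ I₂) {x x' y : G} (hx : x ∈ I₁) (hx' : x' ∈ I₁) (hy : y ∈ I₂)
    (hc : Commute x x') (hxy : Commute x y) (hx'y : Commute x' y) : Wc x y = Wc x' y := by
  by_cases hne : x = x'
  · rw [hne]
  obtain ⟨P, P₁, P₂, hP, h⟩ := c.exists_split _ (isPGroup_closure (s := ({x, x', y} : Set G))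
    (by rintro v (rfl | rfl | rfl); exacts [c.sq₁ hx, c.sq₁ hx', c.sq₂ hy])
    (by rintro v (rfl | rfl | rfl) w (rfl | rfl | rfl) <;>
      first | exact Commute.refl _ | exact hc | exact hc.symm | exact hxy | exact hxy.symm
            | exact hx'y | exact hx'y.symm))
  have hxP := h.mem_left hx (hP (subset_closure (Or.inl rfl)))
  have hx'P := h.mem_left hx' (hP (subset_closure (Or.inr (Or.inl rfl))))
  have hyP := h.mem_right hy (hP (subset_closure (Or.inr (Or.inr rfl))))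
  obtain ⟨y', hy', hy2, hne', hcy⟩ := h.dih₂.exists_partner hyP (c.inv₂ y hy)
  have q : Quad I₁ I₂ x x' y y' := ⟨hx, hx', hne, hc, hy, h.swap.mem_class hy' hy2, hne'.symm, hcy,
    hxy, h.commute hxP hy', hx'y, h.commute hx'P hy'⟩
  obtain ⟨W, -, hW⟩ := q.exists_W c
  rw [hW x (subset_closure (Or.inl rfl)) (c.ne_one₁ hx) y (subset_closure (Or.inl rfl)) (c.ne_one₂ hy),
    hW x' (subset_closure (Or.inr rfl)) (c.ne_one₁ hx') y (subset_closure (Or.inl rfl)) (c.ne_one₂ hy)]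

/-- `Wc` is constant on commuting quadruples. -/
theorem Ctx.Wc_eq (c : Ctx I₁ I₂) {x x' y y' : G} (hx : x ∈ I₁) (hx' : x' ∈ I₁) (hy : y ∈ I₂)
    (hy' : y' ∈ I₂) (hcx : Commute x x') (hcy : Commute y y') (hxy : Commute x y) (hx'y : Commute x' y)
    (hx'y' : Commute x' y') : Wc x y = Wc x' y' := by
  rw [c.Wc_eq_left hx hx' hy hcx hxy hx'y, Wc_comm hx'y,
    c.swap.Wc_eq_left hy hy' hx' hcy hx'y.symm hx'y'.symm, Wc_comm hx'y'.symm]

theorem map_coreCent (g a : G) :
    (coreCent ({a} : Set G)).map (MulAut.conj g).toMonoidHom = coreCent ({g * a * g⁻¹} : Set G) := by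
  refine le_antisymm ?_ fun v hv => ?_
  · rintro _ ⟨v, hv, rfl⟩
    exact conj_mem_coreCent g hv
  · rw [CfsgLib.Techniques.mem_map_conj_iff]
    have := conj_mem_coreCent g⁻¹ hv
    rwa [inv_inv, show g⁻¹ * (g * a * g⁻¹) * g = a by group] at this

theorem map_Pc (g b x : G) :
    (Pc b x).map (MulAut.conj g).toMonoidHom = Pc (g * b * g⁻¹) (g * x * g⁻¹) := by
  unfold Pc
  rw [Subgroup.map_sup, map_commutator, Subgroup.map_inf _ _ _ (MulAut.conj g).injective, map_coreCent, map_coreCent,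
    MonoidHom.map_zpowers]
  rfl

theorem map_Wc (g x y : G) :
    (Wc x y).map (MulAut.conj g).toMonoidHom = Wc (g * x * g⁻¹) (g * y * g⁻¹) := by
  unfold Wc
  simp only [Subgroup.map_sup, Subgroup.map_inf _ _ (MulAut.conj g).toMonoidHom (MulAut.conj g).injective, map_Pc,
    show g * (x * y) * g⁻¹ = g * x * g⁻¹ * (g * y * g⁻¹) by group]

/-- `[O(C(y)), x] ≤ Wc x y`. -/
theorem commutator_core_le {x y : G} (hxy : Commute x y) :
    ⁅coreCent ({y} : Set G), zpowers x⁆ ≤ Wc x y := by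
  refine le_sup_of_le_left (le_sup_of_le_right (le_inf le_sup_left ?_))
  refine le_trans ?_ (le_sup_of_le_right (le_inf le_rfl le_rfl))
  refine CfsgLib.Core.commutator_le_of_normalizes (norm_coreCent fun a ha => ?_)
  obtain ⟨k, rfl⟩ := mem_zpowers_iff.1 ha
  exact hxy.zpow_left k

/-- `[O(C(xy)), x] ≤ Wc x y`. -/
theorem commutator_mixed_le {x y : G} (hx : x * x = 1) (hy : y * y = 1) (hxy : Commute x y) {u : G}
    (hu : u ∈ coreCent ({x * y} : Set G)) : ⁅u, x⁆ ∈ Wc x y := by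
  refine mem_sup_right ⟨mem_sup_left (commutator_mem_commutator hu (mem_zpowers x)), mem_sup_left ?_⟩
  have hu' : Commute u (x * y) := mem_centralizer_singleton_iff.1 (coreCent_le _ hu)
  have hxi : x⁻¹ = x := inv_eq_of_mul_eq_one_right hx
  have hyi : y⁻¹ = y := inv_eq_of_mul_eq_one_right hy
  have h1 : ⁅u, x⁆ = ⁅u, y⁆ := by
    have h3 : Commute u⁻¹ (x * y) := hu'.inv_left
    rw [commutatorElement_def, commutatorElement_def, hxi, hyi]
    calc u * x * u⁻¹ * x = u * x * (u⁻¹ * (x * y)) * y := by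
          rw [show u * x * (u⁻¹ * (x * y)) * y = u * x * u⁻¹ * x * (y * y) by group, hy, mul_one]
      _ = u * x * ((x * y) * u⁻¹) * y := by rw [h3.eq]
      _ = u * (x * x) * y * u⁻¹ * y := by group
      _ = u * y * u⁻¹ * y := by rw [hx, mul_one]
  rw [h1]
  exact commutator_mem_commutator hu (mem_zpowers y)

end CfsgLib.TwoFusion.DihedralProduct
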