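import Cfsg.Agent.Lib.TwoFusion.DihedralProduct.Nested
import Cfsg.Agent.Lib.Components.PComponentExtra

/-!
# Centralisers of involutions modulo their cores; core-separated four-groups
-/

set_option autoImplicit false

namespace CfsgLib.TwoFusion.DihedralProduct

open Subgroup Cfsg
open CfsgLib.Signalizer (involution_sq involution_inv involution_ne_one orderOf_eq_two_of orderOf_conj)
open CfsgLib.FTDep (coreCent coreCent_le coreCent_norm coreCent_odd)
open scoped commutatorElement

variable {G : Type*} [Group G] [Finite G] {I₁ I₂ : Set G}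

/-- `C(xy) = O(C(xy)) C(x)`. -/
theorem Ctx.cen_mixed (c : Ctx I₁ I₂) {x y : G} (hx : x ∈ I₁) (hy : y ∈ I₂) (hxy : Commute x y)
    {g : G} (hg : Commute g (x * y)) :
    ∃ u ∈ coreCent ({x * y} : Set G), Commute (u * g) x ∧ Commute (u * g) y := by
  have h1 := c.isolated hx hy hxy hg
  have hprod : x * (g * x * g⁻¹) ∈ coreCent ({x * y} : Set G) := by
    rw [involution_inv (c.inv₁ x hx)] at h1
    simpa [mul_assoc] using h1
  obtain ⟨u, hu, hux⟩ := exists_conj_of_mul_mem (coreCent_odd _) (c.inv₁ x hx)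
    (show orderOf (g * x * g⁻¹) = 2 by rw [orderOf_conj]; exact c.inv₁ x hx) hprod
  have h2 : Commute (u⁻¹ * g) x := by
    show u⁻¹ * g * x = x * (u⁻¹ * g)
    calc u⁻¹ * g * x = u⁻¹ * (g * x * g⁻¹) * g := by group
      _ = x * (u⁻¹ * g) := by rw [← hux]; group
  have h3 : Commute (u⁻¹ * g) (x * y) := by
    have hu' : Commute u (x * y) := mem_centralizer_singleton_iff.1 (coreCent_le _ hu)
    exact hu'.inv_left.mul_left hg
  refine ⟨u⁻¹, inv_mem hu, h2, ?_⟩
  have := h2.inv_right.mul_right h3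
  rwa [inv_mul_cancel_left] at this

/-- An involution of `I₁` centralising `z ∈ I₂` centralises, after conjugation in `O(C(z))`, a given
element of `I₂` centralising `z`. -/
theorem Ctx.exists_conj_commute (c : Ctx I₁ I₂) {x z y : G} (hx : x ∈ I₁) (hz : z ∈ I₂) (hy : y ∈ I₂)
    (hzy : Commute z y) (hxz : Commute x z) :
    ∃ u ∈ coreCent ({z} : Set G), Commute (u * x * u⁻¹) y := by
  haveI : Fact (Nat.Prime 2) := ⟨Nat.prime_two⟩
  have key : ∃ u ∈ coreCent ({z * 1} : Set G), Commute (u * x * u⁻¹) y := by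
    set C := centralizer ({z * 1} : Set G) with hC
    have hmemC : ∀ g : G, g ∈ C ↔ Commute g z := fun g => by
      rw [hC, mul_one, mem_centralizer_singleton_iff]; rfl
    obtain ⟨T, P, P₁, P₂, h, hQP, hT⟩ := c.exists_local (C := C) (Q := closure {z, y})
      ((closure_le _).2 (by
        rintro a (rfl | rfl)
        · exact (hmemC _).2 (Commute.refl a)
        · exact (hmemC _).2 hzy.symm))
      (isPGroup_pair (c.sq₂ hz) (c.sq₂ hy) hzy)
    have hzP : z ∈ (P : Subgroup G) := hQP (subset_closure (Or.inl rfl))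
    have hyP : y ∈ (P : Subgroup G) := hQP (subset_closure (Or.inr rfl))
    have hinT : ∀ e : C, e ∈ (T : Subgroup C) ↔ (e : G) ∈ (P : Subgroup G) := fun e => by
      rw [hT, mem_subgroupOf]
    set D := (P₂ ⊓ C).subgroupOf C with hD
    set π := QuotientGroup.mk' (oddCore C) with hπ
    set L := (centralizer ((D.map π : Subgroup _) : Set _)).comap π with hL
    have hoddL : ∀ e : C, Odd (orderOf e) → e ∈ L := by
      intro e he
      refine mem_centralizer_iff.2 ?_
      rintro _ ⟨d, hd, rfl⟩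
      have hd' : (d : G) ∈ P₂ ⊓ C := hd
      have h1 := c.swap.odd_mod hz (Or.inl rfl) h.swap hzP (one_mem _) T hT
        (g := (e : G)) (mem_centralizer_singleton_iff.1 e.2)
        (by rwa [Subgroup.orderOf_coe]) hd'.1 ((hmemC _).1 d.2)
      obtain ⟨w, hw, hwe⟩ := h1
      have h2 : e * d * e⁻¹ * d⁻¹ ∈ oddCore C :=
        (congrArg (· ∈ oddCore C) (Subtype.ext (by simpa using hwe) : w = _)).mp hw
      have h3 : π (e * d * e⁻¹ * d⁻¹) = 1 := (QuotientGroup.eq_one_iff _).2 h2
      rw [map_mul, map_mul, map_mul, map_inv, map_inv, mul_inv_eq_one, mul_inv_eq_iff_eq_mul] at h3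
      exact h3.symm
    have hTD : (T : Subgroup C) ≤ normalizer (D : Set C) := by
      rw [Subgroup.le_normalizer_iff]
      intro t ht d hd
      have hd' : (d : G) ∈ P₂ ⊓ C := hd
      exact mem_subgroupOf.2 ⟨h.conj_mem₂ hd'.1 ((hinT t).1 ht), (t * d * t⁻¹).2⟩
    have hTL : (T : Subgroup C) ≤ normalizer (L : Set C) := by
      intro t ht
      refine Subgroup.le_normalizer_comap π ?_
      refine mem_comap.2 (CfsgLib.Components.normalizer_le_normalizer_centralizer' _ ?_)
      exact Subgroup.le_normalizer_map π (mem_map_of_mem π (hTD ht))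
    have htop : (T : Subgroup C) ⊔ L = ⊤ := CfsgLib.Core.eq_top_of_forall_exists_sylow_le _
      fun p hp _ => by
        by_cases h2 : p = 2
        · subst h2; exact ⟨T, le_sup_left⟩
        · haveI := Fact.mk hp
          obtain ⟨R⟩ : Nonempty (Sylow p C) := inferInstance
          refine ⟨R, fun e he => mem_sup_right (hoddL e ?_)⟩
          obtain ⟨k, hk⟩ := IsPGroup.iff_orderOf.1 R.2 ⟨e, he⟩
          rw [Subgroup.orderOf_mk] at hk
          rw [hk]
          exact (hp.odd_of_ne_two h2).pow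
    have hxC : x ∈ C := (hmemC x).2 hxz
    obtain ⟨k, hk⟩ := CfsgLib.Techniques.exists_conj_mem_sylow T
      (H := zpowers (⟨x, hxC⟩ : C)) (IsPGroup.of_card (n := 1) (by
        rw [Nat.card_zpowers, Subgroup.orderOf_mk, c.inv₁ x hx, pow_one]))
    obtain ⟨t, ht, l, hl, rfl⟩ := (CfsgLib.Core.mem_sup_iff_mul hTL).1 (htop ▸ mem_top k)
    have hd₁ : (l : G) * x * (l : G)⁻¹ ∈ P₁ := by
      refine h.mem_left (c.conj₁ x hx _) ?_
      have := mul_mem (mul_mem (inv_mem ((hinT t).1 ht)) ((hinT _).1 (hk _ (mem_zpowers _))))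
        ((hinT t).1 ht)
      simpa [mul_assoc] using this
    -- `x` centralises `l⁻¹ y l ≡ y`
    have hy2 := h.mem_right hy hyP
    have hcom : Commute x ((l : G)⁻¹ * y * l) := by
      have h1 := h.commute hd₁ hy2
      show x * ((l : G)⁻¹ * y * l) = (l : G)⁻¹ * y * l * x
      calc x * ((l : G)⁻¹ * y * l) = (l : G)⁻¹ * ((l : G) * x * (l : G)⁻¹ * y) * l := by group
        _ = (l : G)⁻¹ * (y * ((l : G) * x * (l : G)⁻¹)) * l := by rw [h1.eq]
        _ = _ := by group
    have hyD : (⟨y, (hmemC y).2 hzy.symm⟩ : C) ∈ D := mem_subgroupOf.2 ⟨hy2, (hmemC y).2 hzy.symm⟩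
    have hmodl := mem_centralizer_iff.1 hl (π ⟨y, (hmemC y).2 hzy.symm⟩) (mem_map_of_mem π hyD)
    set yC : C := ⟨y, (hmemC y).2 hzy.symm⟩
    have hker : l⁻¹ * yC * l * yC ∈ oddCore C := by
      refine (QuotientGroup.eq_one_iff _).1 ?_
      show π (l⁻¹ * yC * l * yC) = 1
      rw [map_mul, map_mul, map_mul, map_inv, mul_assoc (π l)⁻¹, hmodl, inv_mul_cancel_left, ← map_mul,
        show yC * yC = 1 from Subtype.ext (c.sq₂ hy), map_one]
    obtain ⟨u, hu, huy⟩ := exists_conj_of_mul_mem (coreCent_odd ({z * 1} : Set G))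
      (show orderOf ((l : G)⁻¹ * y * l) = 2 by
        rw [show (l : G)⁻¹ * y * l = (l : G)⁻¹ * y * ((l : G)⁻¹)⁻¹ by rw [inv_inv], orderOf_conj]
        exact c.inv₂ y hy)
      (c.inv₂ y hy) (mem_map_of_mem C.subtype hker)
    refine ⟨u, hu, ?_⟩
    rw [← huy]
    exact hcom.map (MulAut.conj u).toMonoidHom
  simpa using key

/-- A perfect subgroup is generated by its elements of odd order. -/
theorem le_closure_odd {E : Subgroup G} (hE : ⁅E, E⁆ = E) :
    E ≤ closure {e : G | e ∈ E ∧ Odd (orderOf e)} := by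
  haveI : Fact (Nat.Prime 2) := ⟨Nat.prime_two⟩
  set N := closure {e : G | e ∈ E ∧ Odd (orderOf e)} with hN
  have hNE : N ≤ E := (closure_le _).2 fun e he => he.1
  have hnorm : E ≤ normalizer (N : Set G) := by
    rw [Subgroup.le_normalizer_iff]
    intro g hg n hn
    have hle : N.map (MulAut.conj g).toMonoidHom ≤ N := by
      rw [hN, MonoidHom.map_closure]
      refine closure_mono ?_
      rintro _ ⟨k, hk, rfl⟩
      exact ⟨show g * k * g⁻¹ ∈ E from mul_mem (mul_mem hg hk.1) (inv_mem hg),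
        show Odd (orderOf (g * k * g⁻¹)) by rw [orderOf_conj]; exact hk.2⟩
    exact hle (mem_map_of_mem _ hn)
  haveI : (N.subgroupOf E).Normal := (normal_subgroupOf_iff_le_normalizer hNE).2 hnorm
  have hP : IsPGroup 2 (E ⧸ N.subgroupOf E) := by
    intro q
    obtain ⟨e, rfl⟩ := QuotientGroup.mk'_surjective _ q
    obtain ⟨k, m, hm, hkm⟩ := Nat.exists_eq_pow_mul_and_not_dvd (orderOf_pos e).ne' 2 (by norm_num)
    refine ⟨k, ?_⟩
    rw [← map_pow]
    refine (QuotientGroup.eq_one_iff _).2 (mem_subgroupOf.2 (subset_closure ⟨(e ^ 2 ^ k).2, ?_⟩))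
    rw [Subgroup.orderOf_coe, orderOf_pow, hkm, Nat.gcd_mul_right_left, Nat.mul_div_cancel_left _ (by positivity)]
    exact Nat.not_even_iff_odd.1 fun h => hm (even_iff_two_dvd.1 h)
  haveI := hP.isNilpotent
  haveI : Group.IsPerfect E := Subgroup.isPerfect_iff.mpr hE
  haveI : Group.IsSolvable (E ⧸ N.subgroupOf E) := inferInstance
  exact subgroupOf_eq_top.1 (CfsgLib.FTDep.not_solvable_perfect_quotient inferInstance inferInstance)

/-- The four-group on two commuting involutions. -/
theorem mem_closure_pair_cases {a b : G} (ha : a * a = 1) (hb : b * b = 1) (h : Commute a b) {u : G}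
    (hu : u ∈ closure ({a, b} : Set G)) : u = 1 ∨ u = a ∨ u = b ∨ u = a * b := by
  induction hu using closure_induction with
  | mem v hv => rcases hv with rfl | rfl <;> simp
  | one => simp
  | inv v _ hv =>
    have hab : (a * b)⁻¹ = a * b := by
      rw [mul_inv_rev, inv_eq_of_mul_eq_one_right ha, inv_eq_of_mul_eq_one_right hb, h.eq]
    rcases hv with rfl | rfl | rfl | rfl <;>
      simp [inv_eq_of_mul_eq_one_right ha, inv_eq_of_mul_eq_one_right hb, hab]
  | mul v w _ _ hv hw =>
    have hba : b * a = a * b := h.eq.symm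
    have h1 : a * (a * b) = b := by rw [← mul_assoc, ha, one_mul]
    have h2 : b * (a * b) = a := by rw [h.eq, ← mul_assoc, hb, one_mul]
    have h3 : a * b * a = b := by rw [mul_assoc, hba, h1]
    have h4 : a * b * b = a := by rw [mul_assoc, hb, mul_one]
    have h5 : a * b * (a * b) = 1 := by rw [mul_assoc, h2, ha]
    rcases hv with rfl | rfl | rfl | rfl <;> rcases hw with rfl | rfl | rfl | rfl <;>
      simp [ha, hb, hba, h1, h2, h3, h4, h5]

theorem card_closure_pair {a b : G} (ha : orderOf a = 2) (hb : orderOf b = 2) (h : Commute a b)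
    (hne : a ≠ b) : Nat.card (closure ({a, b} : Set G)) = 4 := by
  classical
  have hset : ((closure ({a, b} : Set G) : Subgroup G) : Set G) = ({1, a, b, a * b} : Finset G) := by
    ext u
    simp only [SetLike.mem_coe, Finset.coe_insert, Finset.coe_singleton, Set.mem_insert_iff,
      Set.mem_singleton_iff]
    constructor
    · exact mem_closure_pair_cases (involution_sq ha) (involution_sq hb) h
    · have hla : a ∈ closure ({a, b} : Set G) := subset_closure (Or.inl rfl)
      have hlb : b ∈ closure ({a, b} : Set G) := subset_closure (Or.inr rfl)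
      rintro (rfl | rfl | rfl | rfl)
      exacts [one_mem _, hla, hlb, mul_mem hla hlb]
  have h1 := involution_ne_one ha
  have h2 := involution_ne_one hb
  have h3 : a * b ≠ 1 := fun e => hne (by rw [mul_eq_one_iff_eq_inv.1 e, involution_inv hb])
  have h4 : a * b ≠ a := fun e => h2 (mul_eq_left.1 e)
  have h5 : a * b ≠ b := fun e => h1 (mul_eq_right.1 e)
  rw [show Nat.card (closure ({a, b} : Set G)) =
    Nat.card ((({1, a, b, a * b} : Finset G) : Set G)) from Nat.card_congr (Equiv.setCongr hset)]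
  rw [Nat.card_coe_set_eq, Set.ncard_coe_finset, Finset.card_insert_of_notMem,
    Finset.card_insert_of_notMem, Finset.card_insert_of_notMem, Finset.card_singleton]
  · simp [Ne.symm h5, h1]
  · simp [hne, Ne.symm h4]
  · simp [Ne.symm h1, Ne.symm h2, Ne.symm h3]

/-- A pair of pairwise commuting pairs in the two classes. -/
structure Quad (I₁ I₂ : Set G) (x x' y y' : G) : Prop where
  x_mem : x ∈ I₁
  x'_mem : x' ∈ I₁
  x_ne : x ≠ x'
  cx : Commute x x'
  y_mem : y ∈ I₂
  y'_mem : y' ∈ I₂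
  y_ne : y ≠ y'
  cy : Commute y y'
  xy : Commute x y
  xy' : Commute x y'
  x'y : Commute x' y
  x'y' : Commute x' y'

theorem Quad.swap {x x' y y' : G} (q : Quad I₁ I₂ x x' y y') : Quad I₂ I₁ y y' x x' :=
  ⟨q.y_mem, q.y'_mem, q.y_ne, q.cy, q.x_mem, q.x'_mem, q.x_ne, q.cx, q.xy.symm, q.x'y.symm,
    q.xy'.symm, q.x'y'.symm⟩

theorem Ctx.mem_four (c : Ctx I₁ I₂) {x x' : G} (hx : x ∈ I₁) (hx' : x' ∈ I₁) (hne : x ≠ x')
    (hc : Commute x x') {a : G} (ha : a ∈ closure ({x, x'} : Set G)) (ha1 : a ≠ 1) : a ∈ I₁ := by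
  rcases mem_closure_pair_cases (c.sq₁ hx) (c.sq₁ hx') hc ha with h | h | h | h
  · exact absurd h ha1
  · exact h ▸ hx
  · exact h ▸ hx'
  · exact h ▸ c.mul_mem₁ hx hx' hne hc

theorem Quad.commute_closure {x x' y y' : G} (q : Quad I₁ I₂ x x' y y') {a b : G}
    (ha : a ∈ closure ({x, x'} : Set G)) (hb : b ∈ closure ({y, y'} : Set G)) : Commute a b := by
  have h1 : closure ({x, x'} : Set G) ≤ centralizer ({y, y'} : Set G) :=
    (closure_le _).2 (by
      rintro v (rfl | rfl) <;> refine mem_centralizer_iff.2 ?_ <;> rintro w (rfl | rfl)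
      exacts [q.xy.eq.symm, q.xy'.eq.symm, q.x'y.eq.symm, q.x'y'.eq.symm])
  have h2 : closure ({y, y'} : Set G) ≤ centralizer ({a} : Set G) :=
    (closure_le _).2 fun v hv => mem_centralizer_singleton_iff.2 (mem_centralizer_iff.1 (h1 ha) v hv)
  exact (mem_centralizer_singleton_iff.1 (h2 hb)).symm

theorem Quad.inf_eq_bot (c : Ctx I₁ I₂) {x x' y y' : G} (q : Quad I₁ I₂ x x' y y') :
    closure ({x, x'} : Set G) ⊓ closure ({y, y'} : Set G) = ⊥ :=
  (eq_bot_iff_forall _).2 fun _ ha => by_contra fun h1 =>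
    c.not_mem (c.mem_four q.x_mem q.x'_mem q.x_ne q.cx ha.1 h1)
      (c.swap.mem_four q.y_mem q.y'_mem q.y_ne q.cy ha.2 h1)

theorem isElementaryAbelian_pair {a b : G} (ha : a * a = 1) (hb : b * b = 1) (h : Commute a b) :
    IsElementaryAbelian 2 (closure ({a, b} : Set G)) := by
  have hs : ∀ v ∈ ({a, b} : Set G), v * v = 1 := by rintro v (rfl | rfl) <;> assumption
  have hc : ∀ v ∈ ({a, b} : Set G), ∀ w ∈ ({a, b} : Set G), Commute v w := by
    rintro v (rfl | rfl) w (rfl | rfl) <;>
      first | exact Commute.refl _ | exact h | exact h.symm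
  exact ⟨⟨⟨fun u v => Subtype.ext (commute_of_mem_closure hs hc u.2 v.2).eq⟩⟩,
    fun u hu => by rw [pow_two]; exact (sq_one_of_mem_closure hs hc hu).1⟩

/-- Modulo `O(C(a))`, odd elements of `C(a)` centralise the first four-group, `a = a₁a₂`, `a₁ ≠ 1`. -/
theorem Quad.odd_four (c : Ctx I₁ I₂) {x x' y y' : G} (q : Quad I₁ I₂ x x' y y') {a b : G}
    (ha : a ∈ closure ({x, x'} : Set G)) (ha1 : a ≠ 1) (hb : b ∈ closure ({y, y'} : Set G))
    {g : G} (hg : Commute g (a * b)) (hgo : Odd (orderOf g)) {d : G}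
    (hd : d ∈ closure ({x, x'} : Set G)) : g * d * g⁻¹ * d⁻¹ ∈ coreCent ({a * b} : Set G) := by
  have hs : ∀ v ∈ ({x, x'} : Set G), v * v = 1 := by
    rintro v (rfl | rfl); exacts [c.sq₁ q.x_mem, c.sq₁ q.x'_mem]
  have hc : ∀ v ∈ ({x, x'} : Set G), ∀ w ∈ ({x, x'} : Set G), Commute v w := by
    rintro v (rfl | rfl) w (rfl | rfl) <;>
      first | exact Commute.refl _ | exact q.cx | exact q.cx.symm
  have haI := c.mem_four q.x_mem q.x'_mem q.x_ne q.cx ha ha1
  have hab : b = 1 ∨ b ∈ I₂ ∧ Commute a b := by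
    by_cases hb1 : b = 1
    · exact Or.inl hb1
    · exact Or.inr ⟨c.swap.mem_four q.y_mem q.y'_mem q.y_ne q.cy hb hb1, q.commute_closure ha hb⟩
  have hQ : IsPGroup 2 (closure ({x, x', y, y'} : Set G)) := by
    refine isPGroup_closure ?_ ?_
    · rintro v (rfl | rfl | rfl | rfl)
      exacts [c.sq₁ q.x_mem, c.sq₁ q.x'_mem, c.sq₂ q.y_mem, c.sq₂ q.y'_mem]
    · rintro v (rfl | rfl | rfl | rfl) w (rfl | rfl | rfl | rfl) <;>
        first
          | exact Commute.refl _ | exact q.cx | exact q.cx.symm | exact q.cy | exact q.cy.symm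
          | exact q.xy | exact q.xy.symm | exact q.xy' | exact q.xy'.symm | exact q.x'y
          | exact q.x'y.symm | exact q.x'y' | exact q.x'y'.symm
  have hQC : closure ({x, x', y, y'} : Set G) ≤ centralizer ({a * b} : Set G) := by
    refine (closure_le _).2 ?_
    have h1 : ∀ v, v ∈ closure ({x, x'} : Set G) → v ∈ centralizer ({a * b} : Set G) := fun v hv =>
      mem_centralizer_singleton_iff.2
        ((commute_of_mem_closure hs hc hv ha).mul_right (q.commute_closure hv hb)).eq
    have h2 : ∀ v, v ∈ closure ({y, y'} : Set G) → v ∈ centralizer ({a * b} : Set G) := fun v hv =>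
      mem_centralizer_singleton_iff.2 ((q.commute_closure ha hv).symm.mul_right
        (commute_of_mem_closure (s := ({y, y'} : Set G))
          (by rintro w (rfl | rfl); exacts [c.sq₂ q.y_mem, c.sq₂ q.y'_mem])
          (by rintro w (rfl | rfl) w' (rfl | rfl) <;>
            first | exact Commute.refl _ | exact q.cy | exact q.cy.symm) hv hb)).eq
    rintro v (rfl | rfl | rfl | rfl)
    exacts [h1 _ (subset_closure (Or.inl rfl)), h1 _ (subset_closure (Or.inr rfl)),
      h2 _ (subset_closure (Or.inl rfl)), h2 _ (subset_closure (Or.inr rfl))]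
  obtain ⟨T, P, P₁, P₂, h, hQP, hT⟩ := c.exists_local hQC hQ
  have hAP : closure ({x, x'} : Set G) ≤ P₁ := (closure_le _).2 (by
    rintro v (rfl | rfl)
    exacts [h.mem_left q.x_mem (hQP (subset_closure (Or.inl rfl))),
      h.mem_left q.x'_mem (hQP (subset_closure (Or.inr (Or.inl rfl))))])
  have hbP : b ∈ (P : Subgroup G) := hQP ((closure_mono (by
    rintro v (rfl | rfl) <;> simp : ({y, y'} : Set G) ⊆ {x, x', y, y'})) hb)
  exact c.odd_mod haI hab h (h.le₁ (hAP ha)) hbP T hT hg hgo (hAP hd)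
    (commute_of_mem_closure hs hc hd ha)

/-- The two four-groups are core-separated. -/
theorem Quad.coreSeparated (c : Ctx I₁ I₂) {x x' y y' : G} (q : Quad I₁ I₂ x x' y y') :
    IsCoreSeparated (closure ({x, x'} : Set G)) (closure ({y, y'} : Set G)) := by
  refine ⟨isElementaryAbelian_pair (c.sq₁ q.x_mem) (c.sq₁ q.x'_mem) q.cx,
    isElementaryAbelian_pair (c.sq₂ q.y_mem) (c.sq₂ q.y'_mem) q.cy,
    card_closure_pair (c.inv₁ x q.x_mem) (c.inv₁ x' q.x'_mem) q.cx q.x_ne,
    card_closure_pair (c.inv₂ y q.y_mem) (c.inv₂ y' q.y'_mem) q.cy q.y_ne, ?_, q.inf_eq_bot c,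
    fun u hu v hv => (q.commute_closure hu hv).eq, ?_⟩
  · intro e
    have hxy' : x ∈ closure ({y, y'} : Set G) := e ▸ subset_closure (Or.inl rfl)
    have : x ∈ closure ({x, x'} : Set G) ⊓ closure ({y, y'} : Set G) :=
      ⟨subset_closure (Or.inl rfl), hxy'⟩
    rw [q.inf_eq_bot c, mem_bot] at this
    exact c.ne_one₁ q.x_mem this
  intro u hu hu1 E hE
  have hn : closure ({x, x'} : Set G) ≤ normalizer (closure ({y, y'} : Set G) : Set G) := fun v hv =>
    centralizer_le_normalizer _ (mem_centralizer_iff.2 fun w hw => (q.commute_closure hv hw).eq.symm)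
  obtain ⟨a, ha, b, hb, rfl⟩ := (CfsgLib.Core.mem_sup_iff_mul hn).1 hu
  -- a bound for the commutator from odd elements
  have bound : ∀ A : Subgroup G, A ≤ centralizer ({a * b} : Set G) →
      (∀ g : G, Commute g (a * b) → Odd (orderOf g) → ∀ d ∈ A,
        g * d * g⁻¹ * d⁻¹ ∈ coreCent ({a * b} : Set G)) →
      ⁅E.map (centralizer ({a * b} : Set G)).subtype, A⁆ ≤ centralizerPPrimeCore 2 (a * b) := by
    intro A hAC hA
    set π := QuotientGroup.mk' (oddCore (centralizer ({a * b} : Set G)))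
    have hle : E ≤ (centralizer ((A.subgroupOf (centralizer ({a * b} : Set G))).map π : Set ((centralizer ({a * b} : Set G)) ⧸ oddCore (centralizer ({a * b} : Set G))))).comap π := by
      refine (le_closure_odd (CfsgLib.Signalizer.pComponent_perfect hE)).trans ((closure_le _).2 ?_)
      intro e he
      refine mem_centralizer_iff.2 ?_
      rintro _ ⟨d, hd, rfl⟩
      obtain ⟨w, hw, hwe⟩ := hA (e : G) (mem_centralizer_singleton_iff.1 e.2)
        (by rw [Subgroup.orderOf_coe]; exact he.2) d hd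
      have h2 : e * d * e⁻¹ * d⁻¹ ∈ oddCore (centralizer ({a * b} : Set G)) :=
        (congrArg (· ∈ oddCore (centralizer ({a * b} : Set G))) (Subtype.ext (by simpa using hwe) : w = _)).mp hw
      have h3 : π (e * d * e⁻¹ * d⁻¹) = 1 := (QuotientGroup.eq_one_iff _).2 h2
      rw [map_mul, map_mul, map_mul, map_inv, map_inv, mul_inv_eq_one, mul_inv_eq_iff_eq_mul] at h3
      exact h3.symm
    rw [commutator_le]
    rintro _ ⟨e, he, rfl⟩ d hd
    refine ⟨⁅e, (⟨d, hAC hd⟩ : (centralizer ({a * b} : Set G)))⁆, (QuotientGroup.eq_one_iff _).1 ?_, rfl⟩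
    show π ⁅e, (⟨d, hAC hd⟩ : (centralizer ({a * b} : Set G)))⁆ = 1
    rw [map_commutatorElement, commutatorElement_eq_one_iff_mul_comm]
    exact (mem_centralizer_iff.1 (hle he) _ (mem_map_of_mem π (mem_subgroupOf.2 hd))).symm
  have hsq := fun {s t : G} (hs : s * s = 1) (ht : t * t = 1) (hst : Commute s t) =>
    isElementaryAbelian_pair hs ht hst
  by_cases ha1 : a = 1
  · right
    have hb1 : b ≠ 1 := fun h => hu1 (by rw [ha1, h, one_mul])
    refine bound _ (fun d hd => ?_) fun g hg hgo d hd => ?_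
    · refine mem_centralizer_singleton_iff.2 ?_
      rw [ha1, one_mul]
      exact congrArg Subtype.val ((hsq (c.sq₂ q.y_mem) (c.sq₂ q.y'_mem) q.cy).1.1.comm ⟨d, hd⟩ ⟨b, hb⟩)
    · have e : a * b = b * 1 := by rw [ha1, one_mul, mul_one]
      rw [e] at hg ⊢
      exact q.swap.odd_four c.swap hb hb1 (one_mem _) hg hgo hd
  · left
    refine bound _ (fun d hd => ?_) fun g hg hgo d hd => q.odd_four c ha ha1 hb hg hgo hd
    refine mem_centralizer_singleton_iff.2 (Commute.mul_right ?_ (q.commute_closure hd hb)).eq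
    exact congrArg Subtype.val ((hsq (c.sq₁ q.x_mem) (c.sq₁ q.x'_mem) q.cx).1.1.comm ⟨d, hd⟩ ⟨a, ha⟩)

end CfsgLib.TwoFusion.DihedralProduct
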