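import Cfsg.Agent.Lib.TwoFusion.DihedralProduct.Main
import Mathlib.GroupTheory.Transfer

/-!
# The two normal subgroups

If the classes commute, `⟨I₁⟩` and `⟨I₂⟩` are the factors; by transfer `⟨I₁⟩ ∩ S = S₁`.
-/

set_option autoImplicit false

namespace CfsgLib.TwoFusion.DihedralProduct

open Subgroup Cfsg
open CfsgLib.Signalizer (involution_sq orderOf_conj)

universe u

variable {G : Type u} [Group G] [Finite G] {I₁ I₂ : Set G}

omit [Finite G] in
theorem Ctx.normal_closure (c : Ctx I₁ I₂) : (closure I₁).Normal := ⟨fun v hv g => by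
  have hle : (closure I₁).map (MulAut.conj g).toMonoidHom ≤ closure I₁ := by
    rw [MonoidHom.map_closure]
    refine closure_mono ?_
    rintro _ ⟨w, hw, rfl⟩
    exact c.conj₁ w hw g
  exact hle (mem_map_of_mem _ hv)⟩

/-- A normal subgroup meets a Sylow subgroup in a subgroup of index prime to `p`. -/
theorem odd_relIndex_of_normal (S : Sylow 2 G) (N : Subgroup G) [N.Normal] :
    Odd ((S : Subgroup G).relIndex N) := by
  haveI : Fact (Nat.Prime 2) := ⟨Nat.prime_two⟩
  have h1 := CfsgLib.Core.card_sup_mul_card_inf (S : Subgroup G) N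
    (CfsgLib.Core.le_normalizer_of_normal _ _)
  have h2 : Nat.card ((S : Subgroup G) ⊓ N : Subgroup G) * (S : Subgroup G).relIndex N = Nat.card N := by
    rw [← inf_relIndex_right, relIndex, ← Nat.card_congr (subgroupOfEquivOfLe inf_le_right).toEquiv,
      card_mul_index]
  have h3 : Nat.card ((S : Subgroup G) ⊔ N : Subgroup G) =
      Nat.card (S : Subgroup G) * (S : Subgroup G).relIndex N := by
    apply Nat.eq_of_mul_eq_mul_right (Nat.card_pos (α := ((S : Subgroup G) ⊓ N : Subgroup G)))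
    rw [h1, ← h2]; ring
  have h4 : (S : Subgroup G).relIndex N ∣ (S : Subgroup G).index := by
    refine Nat.dvd_of_mul_dvd_mul_left (Nat.card_pos (α := (S : Subgroup G))) ?_
    rw [card_mul_index, ← h3]
    exact card_subgroup_dvd_card _
  exact Nat.not_even_iff_odd.1 fun he => S.not_dvd_index ((even_iff_two_dvd.1 he).trans h4)

theorem Ctx.inf_sylow (c : Ctx I₁ I₂) {S : Sylow 2 G} {S₁ S₂ : Subgroup G} (h : Split I₁ I₂ S S₁ S₂)
    (hcomm : ∀ x ∈ I₁, ∀ y ∈ I₂, Commute x y) : closure I₁ ⊓ (S : Subgroup G) = S₁ := by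
  haveI : Fact (Nat.Prime 2) := ⟨Nat.prime_two⟩
  haveI hNn := c.normal_closure
  set N := closure I₁ with hN
  have hS₁N : S₁ ≤ N :=
    h.dih₁.le_closure.trans (closure_mono fun v hv => h.mem_class hv.1 hv.2)
  refine le_antisymm ?_ (le_inf hS₁N h.le₁)
  have hcen : ∀ v ∈ S₂, ∀ w ∈ N, Commute v w := by
    intro v hv w hw
    have h1 : N ≤ centralizer (S₂ : Set G) := (closure_le _).2 fun x hx =>
      mem_centralizer_iff.2 fun b hb => by
        have h2 : S₂ ≤ centralizer ({x} : Set G) := h.dih₂.le_closure.trans ((closure_le _).2 fun y hy =>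
          mem_centralizer_singleton_iff.2 (hcomm x hx y (h.swap.mem_class hy.1 hy.2)).eq.symm)
        exact mem_centralizer_singleton_iff.1 (h2 hb)
    exact mem_centralizer_iff.1 (h1 hw) v hv
  -- the projection on the second factor
  have hproj : ∀ t : (S : Subgroup G).subgroupOf N, ∃ v : center N, ((v : N) : G) ∈ S₂ ∧
      ((t : N) : G) * ((v : N) : G)⁻¹ ∈ S₁ := by
    intro t
    obtain ⟨a, ha, b, hb, e⟩ := h.exists_mul (mem_subgroupOf.1 t.2)
    have hbN : b ∈ N := by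
      have : b = a⁻¹ * ((t : N) : G) := by rw [e]; group
      rw [this]; exact mul_mem (inv_mem (hS₁N ha)) (t : N).2
    refine ⟨⟨⟨b, hbN⟩, mem_center_iff.2 fun w => Subtype.ext (hcen b hb w w.2).eq.symm⟩, hb, ?_⟩
    show ((t : N) : G) * b⁻¹ ∈ S₁
    rw [e, mul_inv_cancel_right]; exact ha
  choose p hp2 hp1 using hproj
  have huniq : ∀ (t : (S : Subgroup G).subgroupOf N) (b : G), b ∈ S₂ →
      ((t : N) : G) * b⁻¹ ∈ S₁ → ((p t : N) : G) = b := by
    intro t b hb hb1
    refine mul_inv_eq_one.1 (h.eq_one ?_ (mul_mem (hp2 t) (inv_mem hb)))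
    have := mul_mem (inv_mem (hp1 t)) hb1
    simpa [mul_assoc] using this
  let φ : (S : Subgroup G).subgroupOf N →* center N := MonoidHom.mk' p fun s t => by
    refine Subtype.ext (Subtype.ext (huniq (s * t) (((p s : N) : G) * ((p t : N) : G))
      (mul_mem (hp2 s) (hp2 t)) ?_))
    have hc : Commute ((s : N) : G) (((t : N) : G) * ((p t : N) : G)⁻¹ * ((p s : N) : G)⁻¹ *
        (((t : N) : G) * ((p t : N) : G)⁻¹)⁻¹ * ((p s : N) : G)) := by
      rw [((h.commute (hp1 t) (inv_mem (hp2 s)))).eq]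
      group
      exact Commute.one_right _
    show ((s : N) : G) * ((t : N) : G) * (((p s : N) : G) * ((p t : N) : G))⁻¹ ∈ S₁
    have e : ((s : N) : G) * ((t : N) : G) * (((p s : N) : G) * ((p t : N) : G))⁻¹ =
        ((s : N) : G) * ((p s : N) : G)⁻¹ * (((t : N) : G) * ((p t : N) : G)⁻¹) := by
      calc ((s : N) : G) * ((t : N) : G) * (((p s : N) : G) * ((p t : N) : G))⁻¹
          = ((s : N) : G) * ((((t : N) : G) * ((p t : N) : G)⁻¹) * ((p s : N) : G)⁻¹) := by group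
        _ = ((s : N) : G) * (((p s : N) : G)⁻¹ * (((t : N) : G) * ((p t : N) : G)⁻¹)) := by
          rw [(h.commute (hp1 t) (inv_mem (hp2 s))).eq]
        _ = _ := by group
    rw [e]
    exact mul_mem (hp1 s) (hp1 t)
  have hφ : ∀ (t : (S : Subgroup G).subgroupOf N), ((t : N) : G) ∈ S₁ → φ t = 1 := fun t ht =>
    Subtype.ext (Subtype.ext (huniq t 1 (one_mem _) (by rwa [inv_one, mul_one])))
  -- the transfer is trivial
  letI : CommGroup (center N) :=
    { (center N).toGroup with mul_comm := fun a b => Subtype.ext (mem_center_iff.1 b.2 a) }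
  have htr : MonoidHom.transfer φ = 1 := by
    classical
    have hgen : closure ((N.subtype ⁻¹' I₁ : Set N)) = ⊤ := closure_closure_coe_preimage
    refine MonoidHom.eq_of_eqOn_dense hgen fun x hx => ?_
    haveI := Fintype.ofFinite (Quotient (MulAction.orbitRel (zpowers x) (N ⧸ (S : Subgroup G).subgroupOf N)))
    rw [MonoidHom.transfer_eq_prod_quotient_orbitRel_zpowers_quot, MonoidHom.one_apply]
    refine Finset.prod_eq_one fun q _ => hφ _ ?_
    set k := Function.minimalPeriod (x • ·) q.out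
    set g := q.out.out
    have hmem : ((g⁻¹ * x ^ k * g : N) : G) ∈ (S : Subgroup G) :=
      mem_subgroupOf.1 (QuotientGroup.out_conj_pow_minimalPeriod_mem _ x q.out)
    show ((g⁻¹ * x ^ k * g : N) : G) ∈ S₁
    simp only [coe_mul, coe_inv, SubgroupClass.coe_pow] at hmem ⊢
    have hxI : (x : G) ∈ I₁ := hx
    rcases Nat.even_or_odd k with ⟨j, hj⟩ | ⟨j, hj⟩
    · rw [hj, ← two_mul, pow_mul, pow_two, c.sq₁ hxI, one_pow, mul_one, inv_mul_cancel]
      exact one_mem _
    · rw [hj, pow_succ, pow_mul, pow_two, c.sq₁ hxI, one_pow, one_mul] at hmem ⊢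
      refine h.mem_left ?_ hmem
      have := c.conj₁ _ hxI (g : G)⁻¹
      rwa [inv_inv] at this
  intro t ht
  obtain ⟨a, ha, b, hb, e⟩ := h.exists_mul ht.2
  have hbN : b ∈ N := by
    have : b = a⁻¹ * t := by rw [e]; group
    rw [this]; exact mul_mem (inv_mem (hS₁N ha)) ht.1
  suffices b = 1 by rw [e, this, mul_one]; exact ha
  set z : N := ⟨b, hbN⟩
  have hkey : ∀ (k : ℕ) (g₀ : N), g₀⁻¹ * z ^ k * g₀ ∈ (S : Subgroup G).subgroupOf N →
      g₀⁻¹ * z ^ k * g₀ = z ^ k := fun k g₀ _ => by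
    have hzg : Commute z g₀ := Subtype.ext (hcen b hb g₀ g₀.2).eq
    rw [mul_assoc, (hzg.pow_left k).eq, inv_mul_cancel_left]
  have h1 := MonoidHom.transfer_eq_pow φ z hkey
  rw [htr, MonoidHom.one_apply] at h1
  have hpow : b ^ ((S : Subgroup G).subgroupOf N).index = 1 := by
    have h2 := huniq ⟨z ^ ((S : Subgroup G).subgroupOf N).index, MonoidHom.transfer_eq_pow_aux z hkey⟩
      (b ^ ((S : Subgroup G).subgroupOf N).index) (pow_mem hb _) (by
        show ((z ^ _ : N) : G) * _ ∈ S₁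
        rw [SubgroupClass.coe_pow, mul_inv_cancel]; exact one_mem _)
    rw [← h2]
    exact congrArg (fun v : center N => ((v : N) : G)) h1.symm
  obtain ⟨i, hi⟩ := IsPGroup.iff_orderOf.1 S.2 ⟨b, h.le₂ hb⟩
  rw [orderOf_mk] at hi
  have hcop : Nat.Coprime (2 ^ i) ((S : Subgroup G).subgroupOf N).index :=
    (Nat.coprime_two_left.2 (odd_relIndex_of_normal S N)).pow_left i
  exact orderOf_eq_one_iff.1 (Nat.eq_one_of_dvd_coprimes hcop hi.dvd (orderOf_dvd_of_pow_eq_one hpow))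

/-- The direct factorisation. -/
theorem Ctx.exists_product (c : Ctx I₁ I₂) {S : Sylow 2 G} {S₁ S₂ : Subgroup G}
    (h : Split I₁ I₂ S S₁ S₂) (hO : oddCore G = ⊥)
    (hO' : ∀ N : Subgroup G, N.Normal → Odd N.index → N = ⊤)
    (hcomm : ∀ x ∈ I₁, ∀ y ∈ I₂, Commute x y) :
    ∃ G₁ G₂ : Subgroup G, G₁.Normal ∧ G₂.Normal ∧ IsInternalDirectProduct G₁ G₂ ⊤ ∧ S₁ ≤ G₁ ∧ S₂ ≤ G₂ ∧
      Odd (S₁.relIndex G₁) ∧ Odd (S₂.relIndex G₂) := by
  haveI : Fact (Nat.Prime 2) := ⟨Nat.prime_two⟩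
  set N₁ := closure I₁ with hN₁
  set N₂ := closure I₂ with hN₂
  haveI hn₁ : N₁.Normal := c.normal_closure
  haveI hn₂ : N₂.Normal := c.swap.normal_closure
  have h1 : N₁ ⊓ (S : Subgroup G) = S₁ := c.inf_sylow h hcomm
  have h2 : N₂ ⊓ (S : Subgroup G) = S₂ :=
    c.swap.inf_sylow h.swap fun y hy x hx => (hcomm x hx y hy).symm
  have hcc : ∀ a ∈ N₁, ∀ b ∈ N₂, a * b = b * a := by
    intro a ha b hb
    have h3 : N₁ ≤ centralizer (I₂ : Set G) := (closure_le _).2 fun x hx =>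
      mem_centralizer_iff.2 fun y hy => (hcomm x hx y hy).eq.symm
    have h4 : N₂ ≤ centralizer ({a} : Set G) := (closure_le _).2 fun y hy =>
      mem_centralizer_singleton_iff.2 (mem_centralizer_iff.1 (h3 ha) y hy)
    exact (mem_centralizer_singleton_iff.1 (h4 hb)).symm
  have hle₁ : S₁ ≤ N₁ := h1 ▸ inf_le_left
  have hle₂ : S₂ ≤ N₂ := h2 ▸ inf_le_left
  have hSle : (S : Subgroup G) ≤ N₁ ⊔ N₂ := h.prod.2.2.2.2 ▸ sup_le_sup hle₁ hle₂
  have htop : N₁ ⊔ N₂ = ⊤ := hO' _ inferInstance (Nat.not_even_iff_odd.1 fun he =>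
    S.not_dvd_index ((even_iff_two_dvd.1 he).trans (index_dvd_of_le hSle)))
  set Z := N₁ ⊓ N₂ with hZ
  have hZc : Z ≤ center G := by
    intro z hz
    have h3 : N₁ ⊔ N₂ ≤ centralizer ({z} : Set G) := sup_le
      (fun a ha => mem_centralizer_singleton_iff.2 (hcc a ha z hz.2))
      (fun b hb => mem_centralizer_singleton_iff.2 (hcc z hz.1 b hb).symm)
    exact mem_center_iff.2 fun g => mem_centralizer_singleton_iff.1 (h3 (htop ▸ mem_top g))
  have hZ2 : IsPGroup 2 Z := by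
    intro z
    obtain ⟨k, m, hm, hkm⟩ := Nat.exists_eq_pow_mul_and_not_dvd (orderOf_pos (z : G)).ne' 2 (by norm_num)
    refine ⟨k, Subtype.ext ?_⟩
    show (z : G) ^ 2 ^ k = 1
    have hcW : zpowers ((z : G) ^ 2 ^ k) ≤ center G := zpowers_le.2 (hZc (pow_mem z.2 _))
    have hW : (zpowers ((z : G) ^ 2 ^ k)).Normal :=
      ⟨fun v hv g => by rwa [mem_center_iff.1 (hcW hv) g, mul_inv_cancel_right]⟩
    have hodd : Odd (Nat.card (zpowers ((z : G) ^ 2 ^ k))) := by
      rw [Nat.card_zpowers, orderOf_pow, hkm, Nat.gcd_mul_right_left,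
        Nat.mul_div_cancel_left _ (by positivity)]
      exact Nat.not_even_iff_odd.1 fun h => hm (even_iff_two_dvd.1 h)
    have := CfsgLib.ZStar.le_oddCore hW hodd
    rwa [hO, le_bot_iff, zpowers_eq_bot] at this
  haveI : Z.Normal := inferInstance
  have hZS : Z ≤ (S : Subgroup G) := by
    obtain ⟨R, hR⟩ := hZ2.exists_le_sylow
    obtain ⟨g, hg⟩ := MulAction.exists_smul_eq G R S
    intro z hz
    rw [← hg, Sylow.coe_subgroup_smul, mem_pointwise_smul_iff_inv_smul_mem]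
    refine hR ?_
    simp only [MulAut.smul_def, ← map_inv, MulAut.conj_apply]
    exact (inferInstance : Z.Normal).conj_mem z hz g⁻¹
  have hinf : N₁ ⊓ N₂ = ⊥ := le_bot_iff.1 fun z hz => by
    refine h.prod.2.2.2.1.le ⟨h1.le ⟨hz.1, hZS hz⟩, h2.le ⟨hz.2, hZS hz⟩⟩
  refine ⟨N₁, N₂, hn₁, hn₂, ⟨le_top, le_top, hcc, hinf, htop⟩, hle₁, hle₂, ?_, ?_⟩
  · have := odd_relIndex_of_normal S N₁
    rwa [← inf_relIndex_left, h1] at this
  · have := odd_relIndex_of_normal S N₂
    rwa [← inf_relIndex_left, h2] at this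

end CfsgLib.TwoFusion.DihedralProduct
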