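import Mathlib.GroupTheory.SpecificGroups.Dihedral
import Cfsg.Agent.Lib.Signalizer.Involutions

/-!
# Dihedral subgroups given by a rotation

`Rot D n r`: `r ∈ D` has order `2 ^ n` and every element of `D` outside `⟨r⟩` is an involution
inverting `r`, two of them multiplying into `⟨r⟩`. `Dih D`: in addition such an element exists.
-/

set_option autoImplicit false

namespace CfsgLib.TwoFusion.DihedralProduct

open Subgroup
open CfsgLib.Signalizer (involution_sq involution_inv involution_ne_one orderOf_eq_two_of)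

variable {G : Type*} [Group G]

/-- `D` has the cyclic subgroup `⟨r⟩` of order `2 ^ n` with inverting involutions outside. -/
structure Rot (D : Subgroup G) (n : ℕ) (r : G) : Prop where
  pos : 1 ≤ n
  mem : r ∈ D
  order : orderOf r = 2 ^ n
  sq : ∀ d ∈ D, d ∉ zpowers r → d * d = 1
  inv : ∀ d ∈ D, d ∉ zpowers r → d * r * d⁻¹ = r⁻¹
  two : ∀ d ∈ D, d ∉ zpowers r → ∀ e ∈ D, e ∉ zpowers r → d * e ∈ zpowers r

/-- A dihedral 2-subgroup (possibly a four-group). -/
def Dih (D : Subgroup G) : Prop :=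
  ∃ n r, Rot D n r ∧ ∃ s ∈ D, s ∉ zpowers r

theorem commute_of_sq {a b : G} (ha : a * a = 1) (hb : b * b = 1) (hab : a * b * (a * b) = 1) :
    Commute a b := by
  show a * b = b * a
  rw [eq_inv_of_mul_eq_one_left hab, mul_inv_rev, inv_eq_of_mul_eq_one_right ha,
    inv_eq_of_mul_eq_one_right hb]

namespace Rot

variable {D : Subgroup G} {n : ℕ} {r : G} (R : Rot D n r)

include R

theorem two_pow_pred : 2 ^ (n - 1) * 2 = 2 ^ n := by
  rw [← pow_succ, Nat.sub_add_cancel R.pos]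

theorem half_order : orderOf (r ^ 2 ^ (n - 1)) = 2 := by
  rw [orderOf_pow_of_dvd (by positivity) (by rw [R.order]; exact pow_dvd_pow 2 (Nat.sub_le n 1)),
    R.order]
  conv_lhs => rw [← R.two_pow_pred]
  exact Nat.mul_div_cancel_left 2 (by positivity)

theorem half_mem : r ^ 2 ^ (n - 1) ∈ D := pow_mem R.mem _

theorem half_mem_zpowers : r ^ 2 ^ (n - 1) ∈ zpowers r := npow_mem_zpowers r _

theorem conj_zpowers {d : G} (hd : d ∈ D) (hdr : d ∉ zpowers r) {a : G} (ha : a ∈ zpowers r) :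
    d * a * d⁻¹ = a⁻¹ := by
  obtain ⟨k, rfl⟩ := mem_zpowers_iff.1 ha
  rw [← conj_zpow, R.inv d hd hdr, inv_zpow]

theorem half_central {d : G} (hd : d ∈ D) : Commute d (r ^ 2 ^ (n - 1)) := by
  by_cases hdr : d ∈ zpowers r
  · obtain ⟨k, rfl⟩ := mem_zpowers_iff.1 hdr
    exact ((Commute.refl r).zpow_left k).pow_right _
  · have h := R.conj_zpowers hd hdr R.half_mem_zpowers
    rw [involution_inv R.half_order] at h
    exact mul_inv_eq_iff_eq_mul.1 h

/-- The only involution of the cyclic subgroup. -/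
theorem eq_half_of_mem {x : G} (hx : x ∈ zpowers r) (h2 : x * x = 1) :
    x = 1 ∨ x = r ^ 2 ^ (n - 1) := by
  obtain ⟨k, rfl⟩ := mem_zpowers_iff.1 hx
  rw [← zpow_add, ← orderOf_dvd_iff_zpow_eq_one, R.order, ← R.two_pow_pred] at h2
  obtain ⟨c, hc⟩ := h2
  push_cast at hc
  have hk : k = ((2 ^ (n - 1) : ℕ) : ℤ) * c := by push_cast; linarith
  rw [hk, zpow_mul, zpow_natCast]
  have hsq : (r ^ 2 ^ (n - 1)) ^ (2 : ℤ) = 1 := by
    rw [zpow_two, involution_sq R.half_order]
  rcases Int.even_or_odd c with ⟨e, he⟩ | ⟨e, he⟩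
  · left; rw [he, ← two_mul, zpow_mul, hsq, one_zpow]
  · right; rw [he, zpow_add, zpow_mul, hsq, one_zpow, one_mul, zpow_one]

theorem mul_mem_of {d e : G} (hd : d ∈ zpowers r) (he : e ∈ D) (her : e ∉ zpowers r) :
    d * e ∈ D ∧ d * e ∉ zpowers r :=
  ⟨mul_mem (zpowers_le.2 R.mem hd) he, fun h => her ((mul_mem_cancel_left hd).1 h)⟩

/-- The centraliser in `D` of an involution other than the central one. -/
theorem eq_of_commute {x : G} (hx : x ∈ D) (hx2 : orderOf x = 2) (hne : x ≠ r ^ 2 ^ (n - 1))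
    {d : G} (hd : d ∈ D) (hc : Commute d x) :
    d = 1 ∨ d = r ^ 2 ^ (n - 1) ∨ d = x ∨ d = r ^ 2 ^ (n - 1) * x := by
  have hxr : x ∉ zpowers r := fun h =>
    (R.eq_half_of_mem h (involution_sq hx2)).elim (involution_ne_one hx2) hne
  have key : ∀ a : G, a ∈ zpowers r → Commute a x → a = 1 ∨ a = r ^ 2 ^ (n - 1) := fun a ha hax => by
    refine R.eq_half_of_mem ha ?_
    have h := R.conj_zpowers hx hxr ha
    rw [← hax.eq, mul_inv_cancel_right] at h
    exact mul_eq_one_iff_eq_inv.2 h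
  by_cases hdr : d ∈ zpowers r
  · rcases key d hdr hc with h | h
    · exact Or.inl h
    · exact Or.inr (Or.inl h)
  · have hdx := R.two d hd hdr x hx hxr
    have e : d = d * x * x := by rw [mul_assoc, involution_sq hx2, mul_one]
    rcases key _ hdx (hc.mul_left (Commute.refl x)) with h | h
    · right; right; left; rw [e, h, one_mul]
    · right; right; right; rw [e, h]

/-- Passage to a quotient by the central involution. -/
theorem map (hn : 2 ≤ n) {H : Type*} [Group H] (f : G →* H)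
    (hker : ∀ x, f x = 1 ↔ x ∈ zpowers (r ^ 2 ^ (n - 1))) : Rot (D.map f) (n - 1) (f r) := by
  have hle : zpowers (r ^ 2 ^ (n - 1)) ≤ zpowers r := zpowers_le.2 R.half_mem_zpowers
  have hout : ∀ d ∈ D, f d ∉ zpowers (f r) → d ∉ zpowers r := fun d _ hdf h => by
    obtain ⟨k, rfl⟩ := mem_zpowers_iff.1 h
    exact hdf (mem_zpowers_iff.2 ⟨k, (map_zpow f r k).symm⟩)
  refine ⟨by omega, mem_map_of_mem f R.mem, ?_, ?_, ?_, ?_⟩
  · have hnn : n - 1 = n - 2 + 1 := by omega
    rw [hnn]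
    haveI : Fact (Nat.Prime 2) := ⟨Nat.prime_two⟩
    refine orderOf_eq_prime_pow (fun h => ?_) ?_
    · rw [← map_pow, hker] at h
      have hd := Subgroup.orderOf_dvd_natCard _ h
      rw [Nat.card_zpowers, R.half_order, orderOf_pow_of_dvd (by positivity)
        (by rw [R.order]; exact pow_dvd_pow 2 (by omega)), R.order,
        Nat.pow_div (by omega) two_pos] at hd
      have := Nat.le_of_dvd two_pos hd
      have : 2 ^ 2 ≤ 2 ^ (n - (n - 2)) := Nat.pow_le_pow_right two_pos (by omega)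
      omega
    · rw [← hnn, ← map_pow, hker]
      exact mem_zpowers _
  · rintro _ ⟨d, hd, rfl⟩ hdf
    rw [← map_mul, R.sq d hd (hout d hd hdf), map_one]
  · rintro _ ⟨d, hd, rfl⟩ hdf
    rw [← map_mul, ← map_inv, ← map_mul, R.inv d hd (hout d hd hdf), map_inv]
  · rintro _ ⟨d, hd, rfl⟩ hdf _ ⟨e, he, rfl⟩ hef
    obtain ⟨k, hk⟩ := mem_zpowers_iff.1 (R.two d hd (hout d hd hdf) e he (hout e he hef))
    exact mem_zpowers_iff.2 ⟨k, by rw [← map_mul, ← hk, map_zpow]⟩

end Rot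

namespace Dih

variable {D : Subgroup G} (hD : Dih D)

include hD

theorem exists_center : ∃ z ∈ D, orderOf z = 2 ∧ ∀ d ∈ D, Commute d z := by
  obtain ⟨n, r, R, -⟩ := hD
  exact ⟨_, R.half_mem, R.half_order, fun d hd => R.half_central hd⟩

theorem le_closure : D ≤ closure {x : G | x ∈ D ∧ orderOf x = 2} := by
  obtain ⟨n, r, R, s, hs, hsr⟩ := hD
  have hout : ∀ d ∈ D, d ∉ zpowers r → d ∈ closure {x : G | x ∈ D ∧ orderOf x = 2} :=
    fun d hd hdr => subset_closure ⟨hd, orderOf_eq_two_of (fun h => hdr (h ▸ one_mem _))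
      (R.sq d hd hdr)⟩
  intro d hd
  by_cases hdr : d ∈ zpowers r
  · have h := R.mul_mem_of hdr hs hsr
    exact (mul_mem_cancel_right (hout s hs hsr)).1 (hout _ h.1 h.2)
  · exact hout d hd hdr

theorem exists_partner {x : G} (hx : x ∈ D) (hx2 : orderOf x = 2) :
    ∃ x' ∈ D, orderOf x' = 2 ∧ x' ≠ x ∧ Commute x x' := by
  obtain ⟨n, r, R, s, hs, hsr⟩ := hD
  by_cases h : x = r ^ 2 ^ (n - 1)
  · exact ⟨s, hs, orderOf_eq_two_of (fun e => hsr (e ▸ one_mem _)) (R.sq s hs hsr),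
      fun e => hsr (e ▸ h ▸ R.half_mem_zpowers), (h ▸ (R.half_central hs).symm)⟩
  · exact ⟨_, R.half_mem, R.half_order, Ne.symm h, R.half_central hx⟩

/-- The centraliser in `D` of an involution is again given by a rotation, through that involution. -/
theorem cen_rot {z : G} (hz : z ∈ D) (hz2 : orderOf z = 2) :
    ∃ n r, Rot (D ⊓ centralizer ({z} : Set G)) n r ∧ r ^ 2 ^ (n - 1) = z ∧
      ∃ s ∈ D ⊓ centralizer ({z} : Set G), s ∉ zpowers r := by
  obtain ⟨n, r, R, s, hs, hsr⟩ := hD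
  by_cases h : z = r ^ 2 ^ (n - 1)
  · have hle : D ⊓ centralizer ({z} : Set G) = D := inf_eq_left.2 fun d hd =>
      mem_centralizer_singleton_iff.2 (h ▸ (R.half_central hd).eq)
    exact ⟨n, r, hle.symm ▸ R, h.symm, s, hle.symm ▸ hs, hsr⟩
  · set c := r ^ 2 ^ (n - 1) with hc
    have hcz : c * z = z * c := (R.half_central hz).eq.symm
    have hcc : c * c = 1 := involution_sq R.half_order
    have hzz : z * z = 1 := involution_sq hz2
    have key : ∀ d ∈ D ⊓ centralizer ({z} : Set G), d ∉ zpowers z → d = c ∨ d = c * z := by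
      rintro d ⟨hd, hdz⟩ hdn
      rcases R.eq_of_commute hz hz2 h hd (mem_centralizer_singleton_iff.1 hdz) with e | e | e | e
      · exact absurd (e ▸ one_mem _) hdn
      · exact Or.inl e
      · exact absurd (e ▸ mem_zpowers z) hdn
      · exact Or.inr e
    have hcz2 : c * z * (c * z) = 1 := by
      rw [mul_assoc, ← mul_assoc z c z, ← hcz, mul_assoc c z z, hzz, mul_one, hcc]
    have hcn : c ∉ zpowers z := fun hm => by
      obtain ⟨k, hk⟩ := mem_zpowers_iff.1 hm
      have hz2' : z ^ (2 : ℤ) = 1 := by rw [zpow_two, hzz]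
      rcases Int.even_or_odd k with ⟨e, rfl⟩ | ⟨e, rfl⟩
      · rw [← two_mul, zpow_mul, hz2', one_zpow] at hk
        exact involution_ne_one R.half_order hk.symm
      · rw [zpow_add, zpow_mul, hz2', one_zpow, one_mul, zpow_one] at hk
        exact h hk
    refine ⟨1, z, ⟨le_rfl, ⟨hz, mem_centralizer_singleton_iff.2 rfl⟩, by rw [hz2, pow_one], ?_, ?_, ?_⟩,
      by rw [Nat.sub_self, pow_zero, pow_one],
      c, ⟨R.half_mem, mem_centralizer_singleton_iff.2 hcz⟩, hcn⟩
    · intro d hd hdn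
      rcases key d hd hdn with rfl | rfl
      · exact hcc
      · exact hcz2
    · rintro d ⟨-, hdz⟩ -
      rw [mem_centralizer_singleton_iff.1 hdz, mul_inv_cancel_right, involution_inv hz2]
    · intro d hd hdn e he hen
      rcases key d hd hdn with rfl | rfl <;> rcases key e he hen with rfl | rfl
      · exact hcc ▸ one_mem _
      · rw [← mul_assoc, hcc, one_mul]; exact mem_zpowers z
      · rw [hcz, mul_assoc, hcc, mul_one]; exact mem_zpowers z
      · exact hcz2 ▸ one_mem _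

theorem congr_map {H : Type*} [Group H] (f : G →* H) (hf : Function.Injective f) :
    Dih (D.map f) := by
  obtain ⟨n, r, R, s, hs, hsr⟩ := hD
  have hiff : ∀ d : G, f d ∈ zpowers (f r) ↔ d ∈ zpowers r := fun d => by
    simp only [mem_zpowers_iff, ← map_zpow, hf.eq_iff]
  refine ⟨n, f r, ⟨R.pos, mem_map_of_mem f R.mem, by rw [orderOf_injective f hf, R.order], ?_, ?_, ?_⟩,
    f s, mem_map_of_mem f hs, fun h => hsr ((hiff s).1 h)⟩
  · rintro _ ⟨d, hd, rfl⟩ hdf
    rw [← map_mul, R.sq d hd fun h => hdf ((hiff d).2 h), map_one]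
  · rintro _ ⟨d, hd, rfl⟩ hdf
    rw [← map_mul, ← map_inv, ← map_mul, R.inv d hd fun h => hdf ((hiff d).2 h), map_inv]
  · rintro _ ⟨d, hd, rfl⟩ hdf _ ⟨e, he, rfl⟩ hef
    rw [← map_mul, hiff]
    exact R.two d hd (fun h => hdf ((hiff d).2 h)) e he fun h => hef ((hiff e).2 h)

end Dih

/-- A subgroup isomorphic to a dihedral group whose order is a power of two is `Dih`. -/
theorem dih_of_equiv [Finite G] {D : Subgroup G} (hP : IsPGroup 2 D) {m : ℕ} (hm : 2 ≤ m)
    (e : D ≃* DihedralGroup m) : Dih D := by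
  haveI : NeZero m := ⟨by omega⟩
  haveI : Fact (Nat.Prime 2) := ⟨Nat.prime_two⟩
  obtain ⟨k, hk⟩ := IsPGroup.iff_card.1 hP
  rw [Nat.card_congr e.toEquiv, DihedralGroup.nat_card] at hk
  obtain ⟨n, -, rfl⟩ := (Nat.dvd_prime_pow Nat.prime_two).1 (Dvd.intro_left 2 hk)
  have hn : 1 ≤ n := Nat.one_le_iff_ne_zero.2 fun h => by simp [h] at hm
  let f : DihedralGroup (2 ^ n) →* G := D.subtype.comp e.symm.toMonoidHom
  have hf : Function.Injective f := D.subtype_injective.comp e.symm.injective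
  have hDf : ∀ d, d ∈ D ↔ ∃ x, f x = d := fun d =>
    ⟨fun hd => ⟨e ⟨d, hd⟩, by simp [f]⟩, by rintro ⟨x, rfl⟩; exact (e.symm x).2⟩
  have hrot : ∀ x, f x ∈ zpowers (f (DihedralGroup.r 1)) ↔ ∃ i, x = DihedralGroup.r i := by
    intro x
    rw [← MonoidHom.map_zpowers, mem_map_iff_mem hf, mem_zpowers_iff]
    constructor
    · rintro ⟨k, rfl⟩; exact ⟨(k : ZMod (2 ^ n)), DihedralGroup.r_one_zpow k⟩
    · rintro ⟨i, rfl⟩
      exact ⟨(i.val : ℤ), by rw [DihedralGroup.r_one_zpow, Int.cast_natCast, ZMod.natCast_zmod_val]⟩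
  refine ⟨n, f (DihedralGroup.r 1), ⟨hn, (hDf _).2 ⟨_, rfl⟩,
    by rw [orderOf_injective f hf, DihedralGroup.orderOf_r_one], ?_, ?_, ?_⟩,
    f (DihedralGroup.sr 0), (hDf _).2 ⟨_, rfl⟩, fun h => by
      obtain ⟨i, hi⟩ := (hrot _).1 h; simp at hi⟩
  · intro d hd hdr
    obtain ⟨(i | i), rfl⟩ := (hDf d).1 hd
    · exact absurd ((hrot _).2 ⟨i, rfl⟩) hdr
    · rw [← map_mul, DihedralGroup.sr_mul_self, map_one]
  · intro d hd hdr
    obtain ⟨(i | i), rfl⟩ := (hDf d).1 hd
    · exact absurd ((hrot _).2 ⟨i, rfl⟩) hdr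
    · rw [← map_mul, ← map_inv, ← map_mul, ← map_inv]
      simp
  · intro d hd hdr e' he her
    obtain ⟨(i | i), rfl⟩ := (hDf d).1 hd
    · exact absurd ((hrot _).2 ⟨i, rfl⟩) hdr
    obtain ⟨(j | j), rfl⟩ := (hDf e').1 he
    · exact absurd ((hrot _).2 ⟨j, rfl⟩) her
    rw [← map_mul, hrot, DihedralGroup.sr_mul_sr]
    exact ⟨_, rfl⟩

end CfsgLib.TwoFusion.DihedralProduct
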