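import Cfsg.Prelude.Def_TwoFusion
import Cfsg.Agent.Lib.TwoFusion.DihedralProduct.Dihedral
import Cfsg.Agent.Lib.FTDep.CoreSeparated
import Cfsg.Agent.Lib.Techniques.Basic

/-!
# Two classes of involutions coming from a product of strongly closed dihedral subgroups

`Ctx I₁ I₂`: every 2-subgroup lies in a Sylow 2-subgroup `P = P₁ × P₂` with dihedral factors whose
involutions are the elements of the classes `I₁`, `I₂` in `P` (closure of involutions only). Everything is symmetric.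
-/

set_option autoImplicit false

namespace CfsgLib.TwoFusion.DihedralProduct

open Subgroup
open CfsgLib.Signalizer (involution_sq involution_inv involution_ne_one orderOf_eq_two_of
  orderOf_conj mul_pair_zpow)
open CfsgLib.FTDep (coreCent coreCent_le coreCent_norm coreCent_odd)

variable {G : Type*} [Group G]

/-- Two involutions congruent modulo a subgroup of odd order are conjugate by that subgroup. -/
theorem exists_conj_of_mul_mem {O : Subgroup G} (hO : Odd (Nat.card O)) {a b : G} (ha : orderOf a = 2)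
    (hb : orderOf b = 2) (h : a * b ∈ O) : ∃ u ∈ O, u * a * u⁻¹ = b := by
  obtain ⟨n, hn⟩ := hO.of_dvd_nat (Subgroup.orderOf_dvd_natCard _ h)
  refine ⟨(a * b) ^ n, pow_mem h n, ?_⟩
  have h1 : a * ((a * b) ^ n)⁻¹ = (a * b) ^ n * a := by
    rw [← zpow_natCast, ← zpow_neg, mul_pair_zpow ha hb, neg_neg]
  rw [mul_assoc, h1, ← mul_assoc, ← pow_add]
  have h2 : (a * b) ^ (n + n) * (a * b) = 1 := by
    rw [← pow_succ, show n + n + 1 = 2 * n + 1 by ring, ← hn, pow_orderOf_eq_one]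
  rw [eq_inv_of_mul_eq_one_left h2, mul_inv_rev, involution_inv ha, involution_inv hb, mul_assoc,
    involution_sq ha, mul_one]

/-- Pairwise commuting elements of square one generate a 2-group of exponent two. -/
theorem sq_one_of_mem_closure {s : Set G} (hs : ∀ a ∈ s, a * a = 1)
    (hc : ∀ a ∈ s, ∀ b ∈ s, Commute a b) {u : G} (hu : u ∈ closure s) :
    u * u = 1 ∧ ∀ a ∈ s, Commute u a := by
  induction hu using closure_induction with
  | mem a ha => exact ⟨hs a ha, hc a ha⟩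
  | one => exact ⟨one_mul _, fun a _ => Commute.one_left a⟩
  | inv a _ h => exact ⟨by rw [← mul_inv_rev, h.1, inv_one], fun b hb => (h.2 b hb).inv_left⟩
  | mul a b ha hb h h' =>
    have hab : Commute b a := by
      have key : closure s ≤ centralizer ({b} : Set G) := (closure_le _).2 fun c hc' =>
        mem_centralizer_singleton_iff.2 (h'.2 c hc').eq.symm
      exact (mem_centralizer_singleton_iff.1 (key ha)).symm
    refine ⟨?_, fun c hc' => (h.2 c hc').mul_left (h'.2 c hc')⟩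
    rw [mul_assoc, ← mul_assoc b a b, hab.eq, mul_assoc a b b, h'.1, mul_one, h.1]

theorem commute_of_mem_closure {s : Set G} (hs : ∀ a ∈ s, a * a = 1)
    (hc : ∀ a ∈ s, ∀ b ∈ s, Commute a b) {u v : G} (hu : u ∈ closure s) (hv : v ∈ closure s) :
    Commute u v := by
  have key : closure s ≤ centralizer ({u} : Set G) := (closure_le _).2 fun c hc' =>
    mem_centralizer_singleton_iff.2 ((sq_one_of_mem_closure hs hc hu).2 c hc').eq.symm
  exact (mem_centralizer_singleton_iff.1 (key hv)).symm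

theorem isPGroup_closure {s : Set G} (hs : ∀ a ∈ s, a * a = 1)
    (hc : ∀ a ∈ s, ∀ b ∈ s, Commute a b) : IsPGroup 2 (closure s) := fun u =>
  ⟨1, Subtype.ext (by simpa [pow_two] using (sq_one_of_mem_closure hs hc u.2).1)⟩

theorem isPGroup_pair {x y : G} (hx : x * x = 1) (hy : y * y = 1) (h : Commute x y) :
    IsPGroup 2 (closure ({x, y} : Set G)) :=
  isPGroup_closure (by rintro a (rfl | rfl) <;> assumption)
    (by rintro a (rfl | rfl) b (rfl | rfl) <;>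
      first | exact Commute.refl _ | exact h | exact h.symm)

/-- A decomposed Sylow 2-subgroup with the involutions of its factors in the two classes. -/
structure Split (I₁ I₂ : Set G) (P : Sylow 2 G) (P₁ P₂ : Subgroup G) : Prop where
  prod : Cfsg.IsInternalDirectProduct P₁ P₂ (P : Subgroup G)
  dih₁ : Dih P₁
  dih₂ : Dih P₂
  mem₁ : ∀ x ∈ (P : Subgroup G), (x ∈ I₁ ↔ orderOf x = 2 ∧ x ∈ P₁)
  mem₂ : ∀ x ∈ (P : Subgroup G), (x ∈ I₂ ↔ orderOf x = 2 ∧ x ∈ P₂)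

namespace Split

variable {I₁ I₂ : Set G} {P : Sylow 2 G} {P₁ P₂ : Subgroup G} (h : Split I₁ I₂ P P₁ P₂)

include h

theorem swap : Split I₂ I₁ P P₂ P₁ :=
  ⟨⟨h.prod.2.1, h.prod.1, fun a ha b hb => (h.prod.2.2.1 b hb a ha).symm,
    by rw [inf_comm]; exact h.prod.2.2.2.1, by rw [sup_comm]; exact h.prod.2.2.2.2⟩,
    h.dih₂, h.dih₁, h.mem₂, h.mem₁⟩

theorem le₁ : P₁ ≤ (P : Subgroup G) := h.prod.1

theorem le₂ : P₂ ≤ (P : Subgroup G) := h.prod.2.1

theorem commute {a b : G} (ha : a ∈ P₁) (hb : b ∈ P₂) : Commute a b := h.prod.2.2.1 a ha b hb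

theorem eq_one {a : G} (h1 : a ∈ P₁) (h2 : a ∈ P₂) : a = 1 := by
  have : a ∈ P₁ ⊓ P₂ := ⟨h1, h2⟩
  rwa [h.prod.2.2.2.1, mem_bot] at this

theorem exists_mul {a : G} (ha : a ∈ (P : Subgroup G)) : ∃ u ∈ P₁, ∃ v ∈ P₂, a = u * v := by
  have hn : P₁ ≤ normalizer (P₂ : Set G) := fun u hu => centralizer_le_normalizer _
    (mem_centralizer_iff.2 fun v hv => (h.commute hu hv).eq.symm)
  exact (CfsgLib.Core.mem_sup_iff_mul hn).1 (h.prod.2.2.2.2.ge ha)

theorem conj_mem₂ {a t : G} (ha : a ∈ P₂) (ht : t ∈ (P : Subgroup G)) : t * a * t⁻¹ ∈ P₂ := by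
  obtain ⟨u, hu, v, hv, rfl⟩ := h.exists_mul ht
  have e : u * v * a * (u * v)⁻¹ = u * (v * a * v⁻¹) * u⁻¹ := by group
  rw [e, (h.commute hu (mul_mem (mul_mem hv ha) (inv_mem hv))).eq, mul_inv_cancel_right]
  exact mul_mem (mul_mem hv ha) (inv_mem hv)

theorem mem_class {a : G} (ha : a ∈ P₁) (h2 : orderOf a = 2) : a ∈ I₁ :=
  (h.mem₁ a (h.le₁ ha)).2 ⟨h2, ha⟩

theorem mem_left {a : G} (ha : a ∈ I₁) (haP : a ∈ (P : Subgroup G)) : a ∈ P₁ :=
  ((h.mem₁ a haP).1 ha).2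

theorem mem_right {a : G} (ha : a ∈ I₂) (haP : a ∈ (P : Subgroup G)) : a ∈ P₂ :=
  ((h.mem₂ a haP).1 ha).2

end Split

/-- The standing data. -/
structure Ctx (I₁ I₂ : Set G) : Prop where
  inv₁ : ∀ x ∈ I₁, orderOf x = 2
  inv₂ : ∀ x ∈ I₂, orderOf x = 2
  conj₁ : ∀ x ∈ I₁, ∀ g : G, g * x * g⁻¹ ∈ I₁
  conj₂ : ∀ x ∈ I₂, ∀ g : G, g * x * g⁻¹ ∈ I₂
  exists_split : ∀ Q : Subgroup G, IsPGroup 2 Q →
    ∃ P : Sylow 2 G, ∃ P₁ P₂ : Subgroup G, Q ≤ (P : Subgroup G) ∧ Split I₁ I₂ P P₁ P₂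

namespace Ctx

variable {I₁ I₂ : Set G} (c : Ctx I₁ I₂)

include c

theorem swap : Ctx I₂ I₁ :=
  ⟨c.inv₂, c.inv₁, c.conj₂, c.conj₁, fun Q hQ => by
    obtain ⟨P, P₁, P₂, hQP, h⟩ := c.exists_split Q hQ
    exact ⟨P, P₂, P₁, hQP, h.swap⟩⟩

theorem sq₁ {x : G} (hx : x ∈ I₁) : x * x = 1 := involution_sq (c.inv₁ x hx)

theorem sq₂ {y : G} (hy : y ∈ I₂) : y * y = 1 := involution_sq (c.inv₂ y hy)

theorem ne_one₁ {x : G} (hx : x ∈ I₁) : x ≠ 1 := involution_ne_one (c.inv₁ x hx)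

theorem ne_one₂ {y : G} (hy : y ∈ I₂) : y ≠ 1 := involution_ne_one (c.inv₂ y hy)

theorem split_at {x : G} (hx : x * x = 1) :
    ∃ P : Sylow 2 G, ∃ P₁ P₂ : Subgroup G, x ∈ (P : Subgroup G) ∧ Split I₁ I₂ P P₁ P₂ := by
  obtain ⟨P, P₁, P₂, hQ, h⟩ := c.exists_split _ (isPGroup_pair hx hx (Commute.refl x))
  exact ⟨P, P₁, P₂, hQ (subset_closure (Or.inl rfl)), h⟩

theorem split_at_pair {x y : G} (hx : x * x = 1) (hy : y * y = 1) (hxy : Commute x y) :
    ∃ P : Sylow 2 G, ∃ P₁ P₂ : Subgroup G, x ∈ (P : Subgroup G) ∧ y ∈ (P : Subgroup G) ∧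
      Split I₁ I₂ P P₁ P₂ := by
  obtain ⟨P, P₁, P₂, hQ, h⟩ := c.exists_split _ (isPGroup_pair hx hy hxy)
  exact ⟨P, P₁, P₂, hQ (subset_closure (Or.inl rfl)), hQ (subset_closure (Or.inr rfl)), h⟩

theorem not_mem {x : G} (hx : x ∈ I₁) : x ∉ I₂ := fun hx' => by
  obtain ⟨P, P₁, P₂, hP, h⟩ := c.split_at (c.sq₁ hx)
  exact c.ne_one₁ hx (h.eq_one (h.mem_left hx hP) (h.mem_right hx' hP))

theorem commute_of_pGroup {Q : Subgroup G} (hQ : IsPGroup 2 Q) {x y : G} (hx : x ∈ I₁)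
    (hy : y ∈ I₂) (hxQ : x ∈ Q) (hyQ : y ∈ Q) : Commute x y := by
  obtain ⟨P, P₁, P₂, hP, h⟩ := c.exists_split Q hQ
  exact h.commute (h.mem_left hx (hP hxQ)) (h.mem_right hy (hP hyQ))

theorem exists_partner {x : G} (hx : x ∈ I₁) : ∃ x' ∈ I₁, x' ≠ x ∧ Commute x x' := by
  obtain ⟨P, P₁, P₂, hP, h⟩ := c.split_at (c.sq₁ hx)
  obtain ⟨x', hx', h2, hne, hc⟩ := h.dih₁.exists_partner (h.mem_left hx hP) (c.inv₁ x hx)
  exact ⟨x', h.mem_class hx' h2, hne, hc⟩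

theorem exists_commuting {x : G} (hx : x ∈ I₁) : ∃ y ∈ I₂, Commute x y := by
  obtain ⟨P, P₁, P₂, hP, h⟩ := c.split_at (c.sq₁ hx)
  obtain ⟨z, hz, hz2, -⟩ := h.dih₂.exists_center
  exact ⟨z, h.swap.mem_class hz hz2, h.commute (h.mem_left hx hP) hz⟩

theorem mul_mem₁ {x x' : G} (hx : x ∈ I₁) (hx' : x' ∈ I₁) (hne : x ≠ x') (hc : Commute x x') :
    x * x' ∈ I₁ := by
  obtain ⟨P, P₁, P₂, hP, hP', h⟩ := c.split_at_pair (c.sq₁ hx) (c.sq₁ hx') hc
  refine h.mem_class (mul_mem (h.mem_left hx hP) (h.mem_left hx' hP'))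
    (orderOf_eq_two_of (fun e => hne ?_) ?_)
  · rw [mul_eq_one_iff_eq_inv.1 e, involution_inv (c.inv₁ x' hx')]
  · rw [mul_assoc, ← mul_assoc x' x x', ← hc.eq, mul_assoc x x' x', c.sq₁ hx', mul_one, c.sq₁ hx]

theorem mul_sq {x y : G} (hx : x ∈ I₁) (hy : y ∈ I₂) (hc : Commute x y) :
    orderOf (x * y) = 2 := by
  refine orderOf_eq_two_of (fun e => c.not_mem hx ?_) ?_
  · rwa [mul_eq_one_iff_eq_inv.1 e, involution_inv (c.inv₂ y hy)]
  · rw [mul_assoc, ← mul_assoc y x y, ← hc.eq, mul_assoc x y y, c.sq₂ hy, mul_one, c.sq₁ hx]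

end Ctx

variable [Finite G]

theorem conj_mem_coreCent {a u : G} (g : G) (hu : u ∈ coreCent ({a} : Set G)) :
    g * u * g⁻¹ ∈ coreCent ({g * a * g⁻¹} : Set G) := by
  set f := (MulAut.conj g).toMonoidHom
  have hC : centralizer ({g * a * g⁻¹} : Set G) = (centralizer ({a} : Set G)).map f := by
    ext v
    rw [CfsgLib.Techniques.mem_map_conj_iff, mem_centralizer_singleton_iff,
      mem_centralizer_singleton_iff]
    constructor <;> intro h
    · calc g⁻¹ * v * g * a = g⁻¹ * (v * (g * a * g⁻¹)) * g := by group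
        _ = g⁻¹ * (g * a * g⁻¹ * v) * g := by rw [h]
        _ = a * (g⁻¹ * v * g) := by group
    · calc v * (g * a * g⁻¹) = g * (g⁻¹ * v * g * a) * g⁻¹ := by group
        _ = g * (a * (g⁻¹ * v * g)) * g⁻¹ := by rw [h]
        _ = g * a * g⁻¹ * v := by group
  refine CfsgLib.FTDep.mem_coreCent_of (hC ▸ mem_map_of_mem f (coreCent_le _ hu))
    (Q := (coreCent ({a} : Set G)).map f) (hC ▸ map_mono (coreCent_le _)) ?_ ?_ (mem_map_of_mem f hu)
  · rw [hC]
    exact (map_mono (coreCent_norm _)).trans (Subgroup.le_normalizer_map f)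
  · rw [card_map_of_injective (MulAut.conj g).injective]
    exact coreCent_odd _

/-- Conjugating a 2-subgroup of an overgroup of a Sylow 2-subgroup into it. -/
theorem exists_conj_into {M : Subgroup G} (S : Sylow 2 G) (hS : (S : Subgroup G) ≤ M) {Q : Subgroup G}
    (hQM : Q ≤ M) (hQ : IsPGroup 2 Q) : ∃ g ∈ M, ∀ x ∈ Q, g * x * g⁻¹ ∈ (S : Subgroup G) := by
  haveI : Fact (Nat.Prime 2) := ⟨Nat.prime_two⟩
  obtain ⟨g, hg⟩ := CfsgLib.Techniques.exists_conj_le_sylow (S.subtype hS) (H := Q.subgroupOf M)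
    (hQ.comap_of_injective _ M.subtype_injective)
  refine ⟨g, g.2, fun x hx => ?_⟩
  have h := hg ⟨⟨x, hQM hx⟩, mem_subgroupOf.2 hx, rfl⟩
  rw [Sylow.coe_subtype, mem_subgroupOf] at h
  exact h

/-- A Sylow 2-subgroup of a subgroup above given 2-elements, with the split group around it. -/
theorem Ctx.exists_local {I₁ I₂ : Set G} (c : Ctx I₁ I₂) {C Q : Subgroup G} (hQC : Q ≤ C)
    (hQ : IsPGroup 2 Q) : ∃ T : Sylow 2 C, ∃ P : Sylow 2 G, ∃ P₁ P₂ : Subgroup G,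
      Split I₁ I₂ P P₁ P₂ ∧ Q ≤ (P : Subgroup G) ∧
      (T : Subgroup C) = (P : Subgroup G).subgroupOf C := by
  haveI : Fact (Nat.Prime 2) := ⟨Nat.prime_two⟩
  obtain ⟨T, hT⟩ := (hQ.comap_of_injective C.subtype C.subtype_injective).exists_le_sylow
  obtain ⟨P, P₁, P₂, hP, h⟩ := c.exists_split _ (T.2.map C.subtype)
  refine ⟨T, P, P₁, P₂, h, fun q hq => hP ⟨⟨q, hQC hq⟩, hT (mem_subgroupOf.2 hq), rfl⟩, ?_⟩
  exact (T.3 (P.2.comap_of_injective C.subtype C.subtype_injective)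
    fun t ht => mem_subgroupOf.2 (hP ⟨t, ht, rfl⟩)).symm

end CfsgLib.TwoFusion.DihedralProduct
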