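import Cfsg.Agent.Lib.TwoFusion.DihedralProduct.Dihedral
import Cfsg.Agent.Lib.TwoGroups.StrongEmbedding
import Cfsg.Agent.Lib.GW.Final
import Cfsg.Agent.Lib.GW.DGroup.Main
import Cfsg.Agent.Lib.GW.Deps.CHZTwo
import Cfsg.Agent.Lib.Core.MinNormal

/-!
# No proper subgroup contains the centralisers of its involutions

For a coreless group with dihedral Sylow 2-subgroups of order at least eight. By Gorenstein–Walter
the socle is `PSL(2, q)` or `A₇`: centralisers of involutions are maximal, and for the small groups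
the number of involutions is impossible.
-/

set_option autoImplicit false

namespace CfsgLib.TwoFusion.DihedralProduct

open Subgroup
open CfsgLib.Signalizer (involution_sq involution_inv involution_ne_one orderOf_eq_two_of orderOf_conj)
open CfsgLib.TwoGroups

universe u

variable {Y : Type u} [Group Y] [Finite Y]

theorem card_centralizer_conj (g a : Y) :
    Nat.card (centralizer ({g * a * g⁻¹} : Set Y)) = Nat.card (centralizer ({a} : Set Y)) := by
  refine (Nat.card_congr ((MulAut.conj g).toEquiv.subtypeEquiv fun x => ?_)).symm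
  show x ∈ centralizer ({a} : Set Y) ↔ g * x * g⁻¹ ∈ centralizer ({g * a * g⁻¹} : Set Y)
  rw [mem_centralizer_singleton_iff, mem_centralizer_singleton_iff]
  constructor <;> intro h
  · calc g * x * g⁻¹ * (g * a * g⁻¹) = g * (x * a) * g⁻¹ := by group
      _ = _ := by rw [h]; group
  · calc x * a = g⁻¹ * (g * x * g⁻¹ * (g * a * g⁻¹)) * g := by group
      _ = g⁻¹ * (g * a * g⁻¹ * (g * x * g⁻¹)) * g := by rw [h]
      _ = a * x := by group

theorem card_isConj {j : Y} (hj : orderOf j = 2)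
    (hconj : ∀ a b : Y, orderOf a = 2 → orderOf b = 2 → IsConj a b) :
    Nat.card {a : Y // orderOf a = 2} * Nat.card (centralizer ({j} : Set Y)) = Nat.card Y := by
  have e : {a : Y // orderOf a = 2} ≃ MulAction.orbit (ConjAct Y) j :=
    Equiv.subtypeEquivRight fun a => by
      rw [ConjAct.mem_orbit_conjAct]
      constructor
      · exact fun ha => hconj a j ha hj
      · intro h
        obtain ⟨c, hc⟩ := isConj_iff.1 h
        rw [← hj, ← hc, orderOf_conj]
  have e2 : Nat.card (centralizer ({j} : Set Y)) =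
      Nat.card (MulAction.stabilizer (ConjAct Y) j) :=
    Nat.card_congr (ConjAct.toConjAct.toEquiv.subtypeEquiv fun x => by
      rw [centralizer_eq_comap_stabilizer]; rfl)
  rw [Nat.card_congr e, e2]
  have h := (MulAction.stabilizer (ConjAct Y) j).card_mul_index
  rw [MulAction.index_stabilizer, ← Nat.card_coe_set_eq] at h
  rw [mul_comm]
  exact h.trans (Nat.card_congr ConjAct.ofConjAct.toEquiv)

section Counting

variable {L : Subgroup Y} (hL : Cfsg.IsStronglyEmbedded L) (T : Sylow 2 Y)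
  (hTL : (T : Subgroup Y) ≤ L) {n : ℕ} {r s : Y} (R : Rot (T : Subgroup Y) n r) (hn : 2 ≤ n)
  (hs : s ∈ (T : Subgroup Y)) (hsr : s ∉ zpowers r)

include hL hTL in
/-- A Sylow 2-subgroup in the strongly embedded subgroup moves the other cosets freely. -/
theorem card_dvd_pred : Nat.card (T : Subgroup Y) ∣ Nat.card (Y ⧸ L) - 1 := by
  classical
  set x₀ : Y ⧸ L := ((1 : Y) : Y ⧸ L)
  have hfix : ∀ t ∈ (T : Subgroup Y), t • x₀ = x₀ := fun t ht => by
    rw [SE.smul_mk_eq_iff]; simpa using hTL ht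
  letI act : MulAction (T : Subgroup Y) {p : Y ⧸ L // p ≠ x₀} :=
    { smul := fun t p => ⟨(t : Y) • p.1, fun h => p.2 (by
        have h1 := hfix _ (inv_mem t.2)
        rw [← h, inv_smul_smul] at h1
        exact h1.trans h)⟩
      one_smul := fun p => Subtype.ext (one_smul Y p.1)
      mul_smul := fun a b p => Subtype.ext (mul_smul (a : Y) b p.1) }
  have hfree : ∀ p : {p : Y ⧸ L // p ≠ x₀}, MulAction.stabilizer (T : Subgroup Y) p = ⊥ := by
    intro p
    refine (eq_bot_iff_forall _).2 fun t ht => ?_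
    by_contra ht1
    have ht' : (t : Y) • p.1 = p.1 := congrArg Subtype.val (MulAction.mem_stabilizer_iff.1 ht)
    obtain ⟨k, hk⟩ := IsPGroup.iff_orderOf.1 T.2 t
    have ho := SE.odd_orderOf_of_fixes hL p.2 ht' (hfix _ t.2)
    rw [Subgroup.orderOf_coe, hk, Nat.odd_pow_iff (fun h0 => ht1 (orderOf_eq_one_iff.1 (by
      rw [hk, h0, pow_zero])))] at ho
    exact absurd ho (by decide)
  have h := Nat.card_congr (MulAction.selfEquivOrbitsQuotientProd hfree)
  rw [Nat.card_prod] at h
  have hsub : Nat.card {p : Y ⧸ L // p ≠ x₀} = Nat.card (Y ⧸ L) - 1 := by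
    have := Fintype.ofFinite (Y ⧸ L)
    rw [Nat.card_eq_fintype_card, Nat.card_eq_fintype_card, Fintype.card_subtype_compl,
      Fintype.card_subtype_eq]
  exact ⟨_, hsub.symm.trans (h.trans (mul_comm _ _))⟩

include hL in
theorem one_lt_card_quotient : 1 < Nat.card (Y ⧸ L) :=
  lt_of_le_of_ne Nat.card_pos fun h => hL.1 (index_eq_one.1 h.symm)

include hL hTL R hn hs hsr in
/-- The strongly embedded subgroup has more than five involutions. -/
theorem six_le_involutions : 6 ≤ Nat.card {t : Y // orderOf t = 2 ∧ t ∈ L} := by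
  have hord : 2 ^ 2 ≤ orderOf r := by rw [R.order]; exact Nat.pow_le_pow_right two_pos hn
  set z := r ^ 2 ^ (n - 1) with hz
  have hout : ∀ i : ℕ, s * r ^ i ∈ (T : Subgroup Y) ∧ s * r ^ i ∉ zpowers r := fun i =>
    ⟨mul_mem hs (pow_mem R.mem i), fun h => hsr ((mul_mem_cancel_right (npow_mem_zpowers r i)).1 h)⟩
  have hinv : ∀ i : ℕ, orderOf (s * r ^ i) = 2 ∧ s * r ^ i ∈ L := fun i =>
    ⟨orderOf_eq_two_of (fun h => (hout i).2 (h ▸ one_mem _)) (R.sq _ (hout i).1 (hout i).2),
      hTL (hout i).1⟩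
  let f : Option (Fin 4) → {t : Y // orderOf t = 2 ∧ t ∈ L} := fun o =>
    o.elim ⟨z, R.half_order, hTL R.half_mem⟩ fun i => ⟨s * r ^ (i : ℕ), hinv i⟩
  have hf : Function.Injective f := by
    have hne : ∀ i : ℕ, s * r ^ i ≠ z := fun i h => (hout i).2 (h ▸ R.half_mem_zpowers)
    rintro (_ | i) (_ | j) h
    · rfl
    · exact absurd (congrArg Subtype.val h).symm (hne j)
    · exact absurd (congrArg Subtype.val h) (hne i)
    · have h' : s * r ^ (i : ℕ) = s * r ^ (j : ℕ) := congrArg Subtype.val h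
      have := (pow_eq_pow_iff_modEq.1 (mul_left_cancel h')).eq_of_lt_of_lt
        (by omega) (by omega)
      rw [Fin.ext this]
  have h5 : Nat.card (Option (Fin 4)) = 5 := by simp
  by_contra hlt
  have hbij := hf.bijective_of_nat_card_le (by omega)
  have hzall : ∀ t : {t : Y // orderOf t = 2 ∧ t ∈ L}, Commute t.1 z := by
    intro t
    obtain ⟨o, rfl⟩ := hbij.2 t
    rcases o with _ | i
    · exact Commute.refl z
    · exact R.half_central (hout i).1
  -- `z` is conjugate in `L` to `s`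
  obtain ⟨x₁, hx₁⟩ : ∃ x : Y ⧸ L, ((1 : Y) : Y ⧸ L) ≠ x := by
    by_contra hno
    push Not at hno
    have := one_lt_card_quotient hL
    haveI : Subsingleton (Y ⧸ L) := ⟨fun a b => (hno a).symm.trans (hno b)⟩
    have h' : Nat.card (Y ⧸ L) = 1 := Nat.card_unique
    omega
  have hfix1 : ∀ a : Y, a • ((1 : Y) : Y ⧸ L) = ((1 : Y) : Y ⧸ L) ↔ a ∈ L := fun a => by
    rw [SE.smul_mk_eq_iff]; simp
  have hs2 : orderOf s = 2 := orderOf_eq_two_of (fun h => hsr (h ▸ one_mem _)) (R.sq s hs hsr)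
  obtain ⟨d, hd, -, hdz⟩ := SE.exists_conj_fixing hL hx₁ R.half_order
    ((hfix1 _).2 (hTL R.half_mem)) hs2 ((hfix1 _).2 (hTL hs))
  have hdL := (hfix1 d).1 hd
  have hall : Commute (s * r ^ 1) s := by
    have h1 := hzall ⟨d⁻¹ * (s * r ^ 1) * d⁻¹⁻¹, by rw [orderOf_conj]; exact (hinv 1).1,
      mul_mem (mul_mem (inv_mem hdL) (hinv 1).2) (inv_mem (inv_mem hdL))⟩
    have h2 := h1.map (MulAut.conj d).toMonoidHom
    have e1 : MulAut.conj d (d⁻¹ * (s * r ^ 1) * d⁻¹⁻¹) = s * r ^ 1 := by
      rw [MulAut.conj_apply]; group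
    rwa [MulEquiv.coe_toMonoidHom, e1, MulAut.conj_apply, hdz] at h2
  have hrs : Commute r s := by
    have h := ((Commute.refl s).inv_left).mul_left hall
    rwa [pow_one, inv_mul_cancel_left] at h
  have h := R.inv s hs hsr
  rw [← hrs.eq, mul_inv_cancel_right] at h
  have h2 := orderOf_dvd_of_pow_eq_one (show r ^ 2 = 1 by rw [pow_two]; exact mul_eq_one_iff_eq_inv.2 h)
  have := Nat.le_of_dvd two_pos h2
  omega

end Counting

/-- The half turn is the only central involution of a dihedral group of order at least eight. -/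
theorem Rot.eq_half_of_central {D : Subgroup Y} {n : ℕ} {r : Y} (R : Rot D n r) (hn : 2 ≤ n)
    {x : Y} (hx : x ∈ D) (hx2 : orderOf x = 2) (hc : ∀ d ∈ D, Commute d x) : x = r ^ 2 ^ (n - 1) := by
  by_contra hne
  have hord : 2 ^ 2 ≤ orderOf r := by rw [R.order]; exact Nat.pow_le_pow_right two_pos hn
  have hsq : ∀ v : Y, v = r → v * v = 1 → False := by
    intro v hvr hv
    have h2 : r ^ 2 = 1 := by rw [pow_two, ← hvr]; exact hv
    have := Nat.le_of_dvd two_pos (orderOf_dvd_of_pow_eq_one h2)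
    omega
  have hz := involution_sq R.half_order
  rcases R.eq_of_commute hx hx2 hne R.mem (hc r R.mem) with h | h | h | h
  · exact hsq _ rfl (by rw [h, one_mul])
  · exact hsq _ rfl (by rw [h, hz])
  · exact hsq _ rfl (by rw [h, involution_sq hx2])
  · refine hsq _ rfl ?_
    have hzx : Commute (r ^ 2 ^ (n - 1)) x := hc _ R.half_mem
    rw [h, mul_assoc, ← mul_assoc x, ← hzx.eq, mul_assoc _ x x, involution_sq hx2, mul_one, hz]

/-- A subgroup containing an involution and the centralisers of its involutions is strongly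
embedded or everything. -/
theorem stronglyEmbedded_of_centralizers {n : ℕ} (hn : 2 ≤ n)
    (hrot : ∀ T : Sylow 2 Y, ∃ r, Rot (T : Subgroup Y) n r)
    (L : Subgroup Y) (hne : L ≠ ⊤) {t : Y} (ht : orderOf t = 2) (htL : t ∈ L)
    (hC : ∀ j ∈ L, orderOf j = 2 → centralizer ({j} : Set Y) ≤ L) :
    Cfsg.IsStronglyEmbedded L ∧ ∀ T : Sylow 2 Y, ∀ j ∈ (T : Subgroup Y), orderOf j = 2 → j ∈ L →
      (T : Subgroup Y) ≤ L := by
  haveI : Fact (Nat.Prime 2) := ⟨Nat.prime_two⟩
  have key : ∀ T : Sylow 2 Y, ∀ j ∈ (T : Subgroup Y), orderOf j = 2 → j ∈ L → (T : Subgroup Y) ≤ L := by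
    intro T j hjT hj hjL
    obtain ⟨r, R⟩ := hrot T
    have hzL : r ^ 2 ^ (n - 1) ∈ L :=
      hC j hjL hj (mem_centralizer_singleton_iff.2 (R.half_central hjT).eq.symm)
    exact fun d hd => hC _ hzL R.half_order (mem_centralizer_singleton_iff.2 (R.half_central hd).eq)
  refine ⟨(CfsgLib.Signalizer.stronglyEmbedded_iff_conj L).2 ⟨hne, ?_, fun j hjL hj g hg => ?_⟩, key⟩
  · exact even_iff_two_dvd.2 (ht ▸ Subgroup.orderOf_dvd_natCard _ htL)
  · obtain ⟨T, hT⟩ := (IsPGroup.of_card (n := 1) (G := zpowers j)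
      (by rw [Nat.card_zpowers, hj, pow_one])).exists_le_sylow
    have hjT := hT (mem_zpowers j)
    have hTL := key T j hjT hj hjL
    set T' : Sylow 2 Y := g • T
    have hT'mem : ∀ v, v ∈ (T' : Subgroup Y) ↔ g⁻¹ * v * g ∈ (T : Subgroup Y) := fun v => by
      rw [Sylow.coe_subgroup_smul, mem_pointwise_smul_iff_inv_smul_mem]
      simp [MulAut.smul_def, MulAut.conj_apply]
    have hgjT : g * j * g⁻¹ ∈ (T' : Subgroup Y) := by
      rw [hT'mem, show g⁻¹ * (g * j * g⁻¹) * g = j by group]; exact hjT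
    have hT'L := key T' _ hgjT (by rw [orderOf_conj]; exact hj) hg
    obtain ⟨l, hl⟩ := MulAction.exists_smul_eq L (T.subtype hTL) (T'.subtype hT'L)
    have hnorm : ∀ v ∈ (T : Subgroup Y), (l : Y)⁻¹ * g * v * ((l : Y)⁻¹ * g)⁻¹ ∈ (T : Subgroup Y) := by
      intro v hv
      have h1 : g * v * g⁻¹ ∈ (T' : Subgroup Y) := by
        rw [hT'mem, show g⁻¹ * (g * v * g⁻¹) * g = v by group]; exact hv
      have h2 : (⟨g * v * g⁻¹, hT'L h1⟩ : L) ∈ ((l • T.subtype hTL : Sylow 2 L) : Subgroup L) := by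
        rw [hl, Sylow.coe_subtype]; exact mem_subgroupOf.2 h1
      rw [Sylow.coe_subgroup_smul, mem_pointwise_smul_iff_inv_smul_mem, Sylow.coe_subtype,
        mem_subgroupOf] at h2
      simpa [MulAut.smul_def, MulAut.conj_apply, mul_assoc] using h2
    obtain ⟨r, R⟩ := hrot T
    set k := (l : Y)⁻¹ * g with hk
    have hkz : k * r ^ 2 ^ (n - 1) * k⁻¹ = r ^ 2 ^ (n - 1) := by
      refine R.eq_half_of_central hn (hnorm _ R.half_mem) (by rw [orderOf_conj]; exact R.half_order) ?_
      intro d hd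
      -- conjugation by `k` is onto `T`
      have hle : (T : Subgroup Y).map (MulAut.conj k).toMonoidHom ≤ (T : Subgroup Y) := by
        rintro _ ⟨v, hv, rfl⟩; exact hnorm v hv
      have heq := Subgroup.eq_of_le_of_card_ge hle
        (card_map_of_injective (MulAut.conj k).injective).ge
      obtain ⟨v, hv, rfl⟩ := heq.ge hd
      exact (R.half_central hv).map (MulAut.conj k).toMonoidHom
    have hkL : k ∈ L := hC _ (hTL R.half_mem) R.half_order
      (mem_centralizer_singleton_iff.2 (mul_inv_eq_iff_eq_mul.1 hkz))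
    have := mul_mem l.2 hkL
    rwa [hk, mul_inv_cancel_left] at this

theorem exists_sylow_rot {n : ℕ} (T₀ : Sylow 2 Y) (hn : 1 ≤ n)
    (e : (T₀ : Subgroup Y) ≃* DihedralGroup (2 ^ n)) (T : Sylow 2 Y) :
    ∃ r, Rot (T : Subgroup Y) n r ∧ ∃ s ∈ (T : Subgroup Y), s ∉ zpowers r := by
  haveI : Fact (Nat.Prime 2) := ⟨Nat.prime_two⟩
  let e' := (Sylow.equiv T T₀).trans e
  obtain ⟨m, r, R, s, hs, hsr⟩ := dih_of_equiv T.2 (Nat.le_self_pow (by omega) 2) e'
  have hm : m = n := by
    have h1 : Nat.card (T : Subgroup Y) = 2 * 2 ^ n := by rw [Nat.card_congr e'.toEquiv, DihedralGroup.nat_card]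
    have h2 : Nat.card (T : Subgroup Y) = 2 * 2 ^ m := by
      have hle : zpowers r ≤ (T : Subgroup Y) := zpowers_le.2 R.mem
      have hidx : ((zpowers r).subgroupOf (T : Subgroup Y)).index = 2 := by
        refine index_eq_two_iff.2 ⟨⟨s, hs⟩, fun b => ?_⟩
        by_cases hb : (b : Y) ∈ zpowers r
        · refine Or.inr ⟨mem_subgroupOf.2 hb, fun h => hsr ?_⟩
          exact (mul_mem_cancel_left hb).1 (mem_subgroupOf.1 h)
        · exact Or.inl ⟨mem_subgroupOf.2 (R.two _ b.2 hb s hs hsr), fun h => hb (mem_subgroupOf.1 h)⟩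
      have := ((zpowers r).subgroupOf (T : Subgroup Y)).card_mul_index
      rw [hidx, Nat.card_congr (subgroupOfEquivOfLe hle).toEquiv, Nat.card_zpowers, R.order] at this
      omega
    exact Nat.pow_right_injective le_rfl (show 2 ^ m = 2 ^ n by omega)
  exact ⟨r, hm ▸ R, s, hs, hsr⟩

/-- The simple linear case. -/
theorem no_embedded_psl [IsSimpleGroup Y] {n : ℕ} (hn : 2 ≤ n) (T : Sylow 2 Y)
    (e : (T : Subgroup Y) ≃* DihedralGroup (2 ^ n)) (L : Subgroup Y) (hL : Cfsg.IsStronglyEmbedded L)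
    (hTL : (T : Subgroup Y) ≤ L) {F : Type} [Field F] [Fintype F] (hodd : Odd (Fintype.card F))
    (h3 : 3 < Fintype.card F) (eF : Y ≃* Matrix.ProjectiveSpecialLinearGroup (Fin 2) F) : False := by
  obtain ⟨r, R, s, hs, hsr⟩ := exists_sylow_rot T (by omega) e T
  have hconj : ∀ a b : Y, orderOf a = 2 → orderOf b = 2 → IsConj a b :=
    fun a b ha hb => SE.isConj_involutions hL ha hb
  have h8 : 8 ∣ Nat.card (T : Subgroup Y) := by
    rw [Nat.card_congr e.toEquiv, DihedralGroup.nat_card]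
    exact Dvd.dvd.trans (by norm_num) (mul_dvd_mul_left 2 (pow_dvd_pow 2 hn))
  set z := r ^ 2 ^ (n - 1) with hz
  have hY := CfsgLib.Classical.Two.card_PSL_two (F := F)
  rw [← Nat.card_congr eF.toEquiv] at hY
  have hgcd : Nat.gcd 2 (Fintype.card F - 1) = 2 := by
    obtain ⟨k, hk⟩ := hodd
    rw [hk, Nat.add_sub_cancel]
    exact Nat.gcd_eq_left (Dvd.intro k rfl)
  rw [hgcd] at hY
  by_cases hq : Fintype.card F ≠ 5 ∧ Fintype.card F ≠ 7 ∧ Fintype.card F ≠ 9
  · have hmax := CfsgLib.GW.Deps.centralizer_maximal hconj hodd h3 hq eF R.half_order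
    have hCL := CfsgLib.Signalizer.stronglyEmbedded_centralizer hL (hTL R.half_mem) R.half_order
    have hLeq : centralizer ({z} : Set Y) = L := ((hmax.le_iff.1 hCL).resolve_left hL.1).symm
    have hs2 : orderOf s = 2 := orderOf_eq_two_of (fun h => hsr (h ▸ one_mem _)) (R.sq s hs hsr)
    have hsL := CfsgLib.Signalizer.stronglyEmbedded_centralizer hL (hTL hs) hs2
    obtain ⟨g, hg⟩ := isConj_iff.1 (hconj s z hs2 R.half_order)
    have hcs : centralizer ({s} : Set Y) = centralizer ({z} : Set Y) :=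
      Subgroup.eq_of_le_of_card_ge (hsL.trans hLeq.ge)
        (le_of_eq (by rw [← hg]; exact card_centralizer_conj g s))
    refine hsr ?_
    rw [R.eq_half_of_central hn hs hs2 fun d hd => ?_]
    · exact R.half_mem_zpowers
    · have : d ∈ centralizer ({s} : Set Y) := hcs ▸ mem_centralizer_singleton_iff.2 (R.half_central hd).eq
      exact mem_centralizer_singleton_iff.1 this
  · have h6 := six_le_involutions hL T hTL R hn hs hsr
    have hdvd := h8.trans (card_dvd_pred hL T hTL)
    have h1 := one_lt_card_quotient hL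
    have hI := card_isConj R.half_order hconj
    rw [SE.card_involutions hL] at hI
    have hC8 : 8 ∣ Nat.card (centralizer ({z} : Set Y)) := h8.trans (card_dvd_of_le fun d hd =>
      mem_centralizer_singleton_iff.2 (R.half_central hd).eq)
    obtain ⟨c, hc⟩ := hC8
    rw [hc] at hI
    rw [← hI] at hY
    set k := Nat.card {t : Y // orderOf t = 2 ∧ t ∈ L}
    set N := Nat.card (Y ⧸ L) with hN
    have hcases : Fintype.card F = 5 ∨ Fintype.card F = 7 ∨ Fintype.card F = 9 := by tauto
    rcases hcases with h | h | h <;> rw [h] at hY <;> norm_num at hY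
    · have h16 : 16 ∣ 120 := ⟨N * k * c, by linarith⟩
      norm_num at h16
    · have h21 : N * k * c = 21 := by linarith
      have hN21 : N ∣ 21 := ⟨k * c, by rw [← h21]; ring⟩
      have hmem : N ∈ Nat.divisors 21 := Nat.mem_divisors.2 ⟨hN21, by norm_num⟩
      rw [show Nat.divisors 21 = {1, 3, 7, 21} by decide] at hmem
      simp only [Finset.mem_insert, Finset.mem_singleton] at hmem
      omega
    · have h45 : N * k * c = 45 := by linarith
      have hmem : N ∈ Nat.divisors 45 := Nat.mem_divisors.2 ⟨⟨k * c, by rw [← h45]; ring⟩, by norm_num⟩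
      rw [show Nat.divisors 45 = {1, 3, 5, 9, 15, 45} by decide] at hmem
      simp only [Finset.mem_insert, Finset.mem_singleton] at hmem
      have hN9 : N = 9 := by omega
      rw [hN9] at h45
      have hk5 : k ∣ 5 := ⟨c, by linarith⟩
      have := Nat.le_of_dvd (by norm_num) hk5
      omega

/-- The alternating case. -/
theorem no_embedded_seven {n : ℕ} (hn : 2 ≤ n) (T : Sylow 2 Y)
    (e : (T : Subgroup Y) ≃* DihedralGroup (2 ^ n)) (L : Subgroup Y) (hL : Cfsg.IsStronglyEmbedded L)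
    (hTL : (T : Subgroup Y) ≤ L) (e7 : Y ≃* alternatingGroup (Fin 7)) : False := by
  obtain ⟨r, R, s, hs, hsr⟩ := exists_sylow_rot T (by omega) e T
  have h8 : 8 ∣ Nat.card (T : Subgroup Y) := by
    rw [Nat.card_congr e.toEquiv, DihedralGroup.nat_card]
    exact Dvd.dvd.trans (by norm_num) (mul_dvd_mul_left 2 (pow_dvd_pow 2 hn))
  set z := r ^ 2 ^ (n - 1) with hz
  obtain ⟨-, t, -, ht, -, -, htz, -⟩ := CfsgLib.GW.DGroup.seven_witness e7 R.half_order
  have h3 : 3 ∣ Nat.card (centralizer ({z} : Set Y)) := ht ▸ Subgroup.orderOf_dvd_natCard _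
    (mem_centralizer_singleton_iff.2 htz.eq)
  have hC8 : 8 ∣ Nat.card (centralizer ({z} : Set Y)) := h8.trans (card_dvd_of_le fun d hd =>
    mem_centralizer_singleton_iff.2 (R.half_central hd).eq)
  obtain ⟨c, hc⟩ := (show Nat.Coprime 8 3 by norm_num).mul_dvd_of_dvd_of_dvd hC8 h3
  have hI := card_isConj R.half_order fun a b ha hb => SE.isConj_involutions hL ha hb
  have h7 : Nat.card Y = 2520 := by
    rw [Nat.card_congr e7.toEquiv, nat_card_alternatingGroup, Nat.card_fin]
    rfl
  rw [SE.card_involutions hL, h7, hc] at hI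
  have h6 := six_le_involutions hL T hTL R hn hs hsr
  have hdvd := h8.trans (card_dvd_pred hL T hTL)
  have h1 := one_lt_card_quotient hL
  set k := Nat.card {t : Y // orderOf t = 2 ∧ t ∈ L}
  set N := Nat.card (Y ⧸ L) with hN
  have h105 : N * k * c = 105 := by linarith
  have hmem : N ∈ Nat.divisors 105 := Nat.mem_divisors.2 ⟨⟨k * c, by rw [← h105]; ring⟩, by norm_num⟩
  rw [show Nat.divisors 105 = {1, 3, 5, 7, 15, 21, 35, 105} by decide] at hmem
  simp only [Finset.mem_insert, Finset.mem_singleton] at hmem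
  have hN' : N = 105 := by omega
  rw [hN'] at h105
  have : k ∣ 1 := ⟨c, by linarith⟩
  have := Nat.le_of_dvd one_pos this
  omega

/-- A subgroup with an involution containing the centralisers of its involutions is everything. -/
theorem eq_top_of_centralizers_le (hO : Cfsg.oddCore Y = ⊥) (T : Sylow 2 Y) {n : ℕ} (hn : 2 ≤ n)
    (e : (T : Subgroup Y) ≃* DihedralGroup (2 ^ n)) (L : Subgroup Y) {t : Y} (ht : orderOf t = 2)
    (htL : t ∈ L) (hC : ∀ j ∈ L, orderOf j = 2 → centralizer ({j} : Set Y) ≤ L) : L = ⊤ := by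
  haveI : Fact (Nat.Prime 2) := ⟨Nat.prime_two⟩
  by_contra hne
  have hrot := fun T' => (exists_sylow_rot T (by omega) e T').imp fun r h => h.1
  obtain ⟨hSE, hkey⟩ := stronglyEmbedded_of_centralizers hn hrot L hne ht htL hC
  have hconj : ∀ a b : Y, orderOf a = 2 → orderOf b = 2 → IsConj a b :=
    fun a b ha hb => SE.isConj_involutions hSE ha hb
  have hnotall : ¬ ∀ a : Y, orderOf a = 2 → a ∈ L := fun h => by
    obtain ⟨g, hg⟩ : ∃ g, g ∉ L := by
      by_contra hno
      push Not at hno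
      exact hne (eq_top_iff.2 fun g _ => hno g)
    exact hg (((CfsgLib.Signalizer.stronglyEmbedded_iff_conj L).1 hSE).2.2 t htL ht g
      (h _ (by rw [orderOf_conj]; exact ht)))
  have hall : ∀ N : Subgroup Y, N.Normal → Even (Nat.card N) → ∀ a : Y, orderOf a = 2 → a ∈ N := by
    intro N hN he a ha
    obtain ⟨b, hbN, hb⟩ := CfsgLib.Signalizer.exists_involution_of_even he
    obtain ⟨g, rfl⟩ := isConj_iff.1 (hconj b a hb ha)
    exact hN.conj_mem b hbN g
  -- a Sylow subgroup inside `L`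
  obtain ⟨T₁, hT₁⟩ := (IsPGroup.of_card (n := 1) (G := zpowers t)
    (by rw [Nat.card_zpowers, ht, pow_one])).exists_le_sylow
  have hT₁L := hkey T₁ t (hT₁ (mem_zpowers t)) ht htL
  obtain ⟨r, R, s, hs, hsr⟩ := exists_sylow_rot T (by omega) e T₁
  have hns : ¬ Group.IsSolvable Y := by
    intro hsol
    haveI := hsol
    haveI : Nontrivial Y := ⟨⟨t, 1, involution_ne_one ht⟩⟩
    obtain ⟨p, hp, hpne⟩ := CfsgLib.Core.exists_pCore_ne_bot (G := Y)
    by_cases h2 : p = 2
    · subst h2
      obtain ⟨a, haN, ha⟩ := CfsgLib.Signalizer.exists_involution_of_two_group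
        (CfsgLib.Core.isPGroup_pCore 2 Y) hpne
      refine hnotall fun b hb => hT₁L (CfsgLib.Core.pCore_le_sylow T₁ (hall _ inferInstance ?_ b hb))
      refine even_iff_two_dvd.2 ?_
      have hd := Subgroup.orderOf_dvd_natCard _ haN
      rwa [ha] at hd
    · haveI := Fact.mk hp
      refine hpne (le_bot_iff.1 (hO ▸ CfsgLib.Core.le_pPrimeCore ?_))
      obtain ⟨k, hk⟩ := IsPGroup.iff_card.1 (CfsgLib.Core.isPGroup_pCore p Y)
      rw [hk]
      exact ((Nat.coprime_primes hp Nat.prime_two).2 h2).pow_left k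
  have A := CfsgLib.GW.DGroup.ambient_of_sylow_core hO T (by omega : 1 ≤ n) e
  rcases CfsgLib.GW.DGroup.shape_of_gw CfsgLib.GW.Final.gwStatement A hns with
    ⟨F, iF, iF', M, hM, eM, hK⟩ | ⟨⟨e7⟩⟩
  · haveI := CfsgLib.Classical.isSimpleGroup_PSL_two (F := F) hK.four_le
    haveI : Nontrivial M := eM.toEquiv.nontrivial
    haveI : IsSimpleGroup M :=
      IsSimpleGroup.isSimpleGroup_of_surjective eM.symm.toMonoidHom eM.symm.surjective
    have hMeven : Even (Nat.card M) := by
      by_contra h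
      have hle : M ≤ Cfsg.oddCore Y := CfsgLib.ZStar.le_oddCore hM (Nat.not_even_iff_odd.1 h)
      rw [hO, le_bot_iff] at hle
      exact (nontrivial_iff_ne_bot M).1 inferInstance hle
    have hTM : (T₁ : Subgroup Y) ≤ M := by
      have hinvs : ∀ d ∈ (T₁ : Subgroup Y), d ∉ zpowers r → d ∈ M := fun d hd hdr =>
        hall M hM hMeven d (orderOf_eq_two_of (fun h => hdr (h ▸ one_mem _)) (R.sq d hd hdr))
      intro d hd
      by_cases hdr : d ∈ zpowers r
      · have h := R.mul_mem_of hdr hs hsr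
        exact (mul_mem_cancel_right (hinvs s hs hsr)).1 (hinvs _ h.1 h.2)
      · exact hinvs d hd hdr
    set L' := L.subgroupOf M
    have hne' : L' ≠ ⊤ := fun h => hnotall fun a ha =>
      mem_subgroupOf.1 (h ▸ mem_top (⟨a, hall M hM hMeven a ha⟩ : M))
    let eT := (subgroupOfEquivOfLe hTM).trans ((Sylow.equiv T₁ T).trans e)
    have hrot' := fun T' => (exists_sylow_rot (T₁.subtype hTM) (by omega) eT T').imp fun r h => h.1
    obtain ⟨hSE', -⟩ := stronglyEmbedded_of_centralizers hn hrot' L' hne'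
      (t := ⟨r ^ 2 ^ (n - 1), hTM R.half_mem⟩) (by rw [orderOf_mk, R.half_order])
      (mem_subgroupOf.2 (hT₁L R.half_mem)) fun j hj hj2 u hu => mem_subgroupOf.2 (hC (j : Y)
        (mem_subgroupOf.1 hj) (by rw [Subgroup.orderOf_coe, hj2])
        (mem_centralizer_singleton_iff.2 (congrArg Subtype.val (mem_centralizer_singleton_iff.1 hu))))
    exact no_embedded_psl hn (T₁.subtype hTM) eT L' hSE'
      (fun d hd => mem_subgroupOf.2 (hT₁L (mem_subgroupOf.1 hd))) hK.odd
      (by have := hK.four_le; omega) eM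
  · exact no_embedded_seven hn T₁ ((Sylow.equiv T₁ T).trans e) L hSE hT₁L e7

end CfsgLib.TwoFusion.DihedralProduct
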