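import Cfsg.Agent.Lib.TwoFusion.DihedralProduct.Pairs
import Cfsg.Agent.Lib.TwoFusion.DihedralProduct.Connectivity

/-!
# The two classes commute

`M = N(W)` for the subgroup `W` of a central pair contains `I₁`, so `⟨I₁⟩` centralises `W`; hence a
commuting pair centralises the core of the centraliser of its product, and all pairs commute.
-/

set_option autoImplicit false

namespace CfsgLib.TwoFusion.DihedralProduct

open Subgroup Cfsg
open CfsgLib.Signalizer (involution_sq involution_inv involution_ne_one orderOf_eq_two_of orderOf_conj)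
open CfsgLib.FTDep (coreCent coreCent_le coreCent_norm coreCent_odd)
open scoped commutatorElement

universe u

variable {G : Type u} [Group G] [Finite G]

/-- A split Sylow subgroup with a central involution in each factor. -/
structure Base (I₁ I₂ : Set G) (S : Sylow 2 G) (S₁ S₂ : Subgroup G) (z₁ z₂ : G) : Prop where
  ctx : Ctx I₁ I₂
  split : Split I₁ I₂ S S₁ S₂
  mem₁ : z₁ ∈ S₁
  ord₁ : orderOf z₁ = 2
  cen₁ : ∀ d ∈ S₁, Commute d z₁
  mem₂ : z₂ ∈ S₂
  ord₂ : orderOf z₂ = 2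
  cen₂ : ∀ d ∈ S₂, Commute d z₂

/-- An involution of a quotient lying in the image of a subgroup is the image of a 2-element in a
given Sylow 2-subgroup, up to conjugation in the subgroup. -/
theorem exists_sylow_preimage {X Y : Type*} [Group X] [Finite X] [Group Y] (π : X →* Y)
    {L : Subgroup X} (T : Sylow 2 X) (hT : (T : Subgroup X) ≤ L) {v : X} (hv : v ∈ L)
    (h2 : π v * π v = 1) :
    ∃ l ∈ L, ∃ t ∈ (T : Subgroup X), π t = π l * π v * (π l)⁻¹ := by
  haveI : Fact (Nat.Prime 2) := ⟨Nat.prime_two⟩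
  obtain ⟨k, m, hm, hkm⟩ := Nat.exists_eq_pow_mul_and_not_dvd (orderOf_pos v).ne' 2 (by norm_num)
  have hπ : π (v ^ m) = π v := by
    obtain ⟨i, hi⟩ := Nat.not_even_iff_odd.1 fun h => hm (even_iff_two_dvd.1 h)
    rw [map_pow, hi, pow_succ, pow_mul, pow_two, h2, one_pow, one_mul]
  have hP : IsPGroup 2 (zpowers (v ^ m)) := by
    refine IsPGroup.of_card (n := k) ?_
    have hm0 : 0 < m := Nat.pos_of_ne_zero fun h => hm (h ▸ dvd_zero 2)
    rw [Nat.card_zpowers, orderOf_pow, hkm, Nat.gcd_mul_left_left, Nat.mul_div_cancel _ hm0]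
  obtain ⟨l, hl, hlT⟩ := exists_conj_into T hT (zpowers_le.2 (pow_mem hv m)) hP
  exact ⟨l, hl, _, hlT _ (mem_zpowers _), by rw [map_mul, map_mul, map_inv, hπ]⟩

/-- The subgroup `M`. -/
abbrev bigM (z₁ z₂ : G) : Subgroup G := normalizer (Wc z₁ z₂ : Set G)

namespace Base

variable {I₁ I₂ : Set G} {S : Sylow 2 G} {S₁ S₂ : Subgroup G} {z₁ z₂ : G}
  (B : Base I₁ I₂ S S₁ S₂ z₁ z₂)

include B

theorem in₁ : z₁ ∈ I₁ := B.split.mem_class B.mem₁ B.ord₁

theorem in₂ : z₂ ∈ I₂ := B.split.swap.mem_class B.mem₂ B.ord₂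

theorem sylow_le : (S : Subgroup G) ≤ bigM z₁ z₂ := by
  intro s hs
  obtain ⟨u, hu, v, hv, rfl⟩ := B.split.exists_mul hs
  have h1 : Commute (u * v) z₁ := (B.cen₁ u hu).mul_left (B.split.commute B.mem₁ hv).symm
  have h2 : Commute (u * v) z₂ := (B.split.commute hu B.mem₂).mul_left (B.cen₂ v hv)
  refine map_eq_iff.1 ?_
  rw [map_Wc, h1.eq, h2.eq, mul_inv_cancel_right, mul_inv_cancel_right]

theorem wc_base {x y : G} (hx : x ∈ I₁) (hy : y ∈ I₂) (hxS : x ∈ (S : Subgroup G))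
    (hyS : y ∈ (S : Subgroup G)) : Wc x y = Wc z₁ z₂ := by
  have hx' := B.split.mem_left hx hxS
  have hy' := B.split.mem_right hy hyS
  exact B.ctx.Wc_eq hx B.in₁ hy B.in₂ (B.cen₁ x hx') (B.cen₂ y hy') (B.split.commute hx' hy')
    (B.split.commute B.mem₁ hy') (B.split.commute B.mem₁ B.mem₂)

theorem wc_mem {x y : G} (hx : x ∈ I₁) (hy : y ∈ I₂) (hxy : Commute x y) (hxM : x ∈ bigM z₁ z₂)
    (hyM : y ∈ bigM z₁ z₂) : Wc x y = Wc z₁ z₂ := by
  obtain ⟨g, hg, hgS⟩ := exists_conj_into S B.sylow_le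
    ((closure_le _).2 (by rintro v (rfl | rfl) <;> assumption) : closure ({x, y} : Set G) ≤ bigM z₁ z₂)
    (isPGroup_pair (B.ctx.sq₁ hx) (B.ctx.sq₂ hy) hxy)
  refine Subgroup.map_injective (f := (MulAut.conj g).toMonoidHom) (MulAut.conj g).injective ?_
  rw [map_Wc, B.wc_base (B.ctx.conj₁ x hx g) (B.ctx.conj₂ y hy g) (hgS x (subset_closure (Or.inl rfl)))
    (hgS y (subset_closure (Or.inr rfl))), map_eq_iff.2 hg]

theorem pair_cen_le {x y : G} (hx : x ∈ I₁) (hy : y ∈ I₂) (hxy : Commute x y) (hxM : x ∈ bigM z₁ z₂)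
    (hyM : y ∈ bigM z₁ z₂) {g : G} (hgx : Commute g x) (hgy : Commute g y) : g ∈ bigM z₁ z₂ := by
  refine map_eq_iff.1 ?_
  conv_lhs => rw [← B.wc_mem hx hy hxy hxM hyM]
  rw [map_Wc, hgx.eq, hgy.eq, mul_inv_cancel_right, mul_inv_cancel_right, B.wc_mem hx hy hxy hxM hyM]

theorem core_le {x y : G} (hx : x ∈ I₁) (hy : y ∈ I₂) (hxy : Commute x y) (hxM : x ∈ bigM z₁ z₂)
    (hyM : y ∈ bigM z₁ z₂) : coreCent ({y} : Set G) ≤ bigM z₁ z₂ := by
  intro u hu
  have hn : zpowers x ≤ normalizer (coreCent ({y} : Set G) : Set G) := norm_coreCent fun a ha => by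
    obtain ⟨k, rfl⟩ := mem_zpowers_iff.1 ha
    exact hxy.zpow_left k
  have h2 : IsPGroup 2 (zpowers x) :=
    IsPGroup.of_card (n := 1) (by rw [Nat.card_zpowers, B.ctx.inv₁ x hx, pow_one])
  obtain ⟨v, hv, w, hw, rfl⟩ := CfsgLib.Core.exists_mul_centralizing hn
    (coprime_two_group h2 (coreCent_odd _)) (Or.inl inferInstance) hu
  refine mul_mem (le_normalizer (B.wc_mem hx hy hxy hxM hyM ▸ commutator_core_le hxy hv)) ?_
  exact B.pair_cen_le hx hy hxy hxM hyM (mem_centralizer_iff.1 hw.2 x (mem_zpowers x)).symm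
    (mem_centralizer_singleton_iff.1 (coreCent_le _ hw.1))

theorem mixed_le {x y : G} (hx : x ∈ I₁) (hy : y ∈ I₂) (hxy : Commute x y) (hxM : x ∈ bigM z₁ z₂)
    (hyM : y ∈ bigM z₁ z₂) {g : G} (hg : Commute g (x * y)) : g ∈ bigM z₁ z₂ := by
  obtain ⟨u, hu, h1, h2⟩ := B.ctx.cen_mixed hx hy hxy hg
  have hug := B.pair_cen_le hx hy hxy hxM hyM h1 h2
  refine (mul_mem_cancel_left ?_).1 hug
  -- `O(C(xy)) ≤ M`
  have hn : zpowers x ≤ normalizer (coreCent ({x * y} : Set G) : Set G) := norm_coreCent fun a ha => by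
    obtain ⟨k, rfl⟩ := mem_zpowers_iff.1 ha
    exact ((Commute.refl x).mul_right hxy).zpow_left k
  have h2' : IsPGroup 2 (zpowers x) :=
    IsPGroup.of_card (n := 1) (by rw [Nat.card_zpowers, B.ctx.inv₁ x hx, pow_one])
  obtain ⟨v, hv, w, hw, rfl⟩ := CfsgLib.Core.exists_mul_centralizing hn
    (coprime_two_group h2' (coreCent_odd _)) (Or.inl inferInstance) hu
  refine mul_mem (le_normalizer ?_) ?_
  · rw [← B.wc_mem hx hy hxy hxM hyM]
    refine (commutator_le.2 fun k hk l hl => ?_) hv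
    obtain ⟨i, rfl⟩ := mem_zpowers_iff.1 hl
    rcases Int.even_or_odd i with ⟨e, rfl⟩ | ⟨e, rfl⟩
    · rw [← two_mul, zpow_mul, zpow_two, B.ctx.sq₁ hx, one_zpow, commutatorElement_one_right]
      exact one_mem _
    · rw [zpow_add, zpow_mul, zpow_two, B.ctx.sq₁ hx, one_zpow, one_mul, zpow_one]
      exact commutator_mixed_le (B.ctx.sq₁ hx) (B.ctx.sq₂ hy) hxy hk
  · have hwx : Commute w x := (mem_centralizer_iff.1 hw.2 x (mem_zpowers x)).symm
    have hwa : Commute w (x * y) := mem_centralizer_singleton_iff.1 (coreCent_le _ hw.1)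
    refine B.pair_cen_le hx hy hxy hxM hyM hwx ?_
    have := hwx.inv_right.mul_right hwa
    rwa [inv_mul_cancel_left] at this

/-- The elements centralising `z₂` and a second involution of `S₂` lie in `M`. -/
theorem four_cen_le {n : ℕ} (hn : 2 ≤ n) (e₁ : S₁ ≃* DihedralGroup (2 ^ n)) {y : G} (hy : y ∈ S₂)
    (hy2 : orderOf y = 2) (hne : z₂ ≠ y) :
    centralizer ((closure ({z₂, y} : Set G) : Subgroup G) : Set G) ≤ bigM z₁ z₂ := by
  haveI : Fact (Nat.Prime 2) := ⟨Nat.prime_two⟩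
  have hzy : Commute z₂ y := (B.cen₂ y hy).symm
  have hyI := B.split.swap.mem_class hy hy2
  set A := closure ({z₂, y} : Set G) with hA
  set X := centralizer (A : Set G) with hX
  have hAX : A ≤ X := (closure_le _).2 (by
    rintro v (rfl | rfl) <;> rw [hX, hA, centralizer_closure] <;> refine mem_centralizer_iff.2 ?_ <;>
      rintro w (rfl | rfl)
    exacts [rfl, hzy.eq.symm, hzy.eq, rfl])
  have hAS₂ : A ≤ S₂ := (closure_le _).2 (by rintro v (rfl | rfl); exacts [B.mem₂, hy])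
  have hA2 : IsPGroup 2 A := isPGroup_pair (B.ctx.sq₂ B.in₂) (involution_sq hy2) hzy
  have hS₁X : S₁ ≤ X := fun d hd => mem_centralizer_iff.2 fun a ha =>
    (B.split.commute hd (hAS₂ ha)).eq.symm
  -- `S ∩ X` is a Sylow subgroup of `X`
  obtain ⟨T, P, P₁, P₂, h, hQP, hT⟩ := B.ctx.exists_local (C := X) (Q := S₁ ⊔ A) (sup_le hS₁X hAX)
    ((S.2.to_le (sup_le B.split.le₁ (hAS₂.trans B.split.le₂))))
  obtain ⟨g, hg⟩ := CfsgLib.Techniques.exists_conj_mem_sylow S P.2
  have hS₁P : S₁ ≤ P₁ := B.split.dih₁.le_closure.trans ((closure_le _).2 fun v hv =>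
    h.mem_left (B.split.mem_class hv.1 hv.2) (hQP (mem_sup_left hv.1)))
  have hP₁ : P₁ = S₁ := (Subgroup.eq_of_le_of_card_ge hS₁P (by
    rw [← card_map_of_injective (f := (MulAut.conj g).toMonoidHom) (MulAut.conj g).injective (K := P₁)]
    exact card_le_of_le (h.map_le B.ctx B.split hg))).symm
  have hyP : y ∈ P₂ := h.mem_right hyI (hQP (mem_sup_right (subset_closure (Or.inr rfl))))
  have hzP : z₂ ∈ P₂ := h.mem_right B.in₂ (hQP (mem_sup_right (subset_closure (Or.inl rfl))))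
  have hP₂ : ∀ d ∈ P₂, d ∈ X → d ∈ A := by
    intro d hd hdX
    rw [hX, hA, centralizer_closure, mem_centralizer_iff] at hdX
    have hdz : Commute d z₂ := (hdX z₂ (Or.inl rfl)).symm
    have hdy : Commute d y := (hdX y (Or.inr rfl)).symm
    obtain ⟨m, r, R, -⟩ := h.dih₂
    set a := r ^ 2 ^ (m - 1)
    have key : ∀ {p q : G}, p ∈ P₂ → orderOf p = 2 → q ∈ P₂ → orderOf q = 2 → p ≠ q → p ≠ a →
        Commute q p → Commute d p → p ∈ A → q ∈ A → d ∈ A := by
      intro p q hp hp2 hq hq2 hpq hpa hqp hdp hpA hqA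
      have haA : a ∈ A := by
        rcases R.eq_of_commute hp hp2 hpa hq hqp with e | e | e | e
        · exact absurd e (involution_ne_one hq2)
        · rw [show a = q from e.symm]; exact hqA
        · exact absurd e.symm hpq
        · have : a = q * p := by rw [e, mul_assoc, involution_sq hp2, mul_one]
          exact this ▸ mul_mem hqA hpA
      rcases R.eq_of_commute hp hp2 hpa hd hdp with e | e | e | e <;> rw [e]
      exacts [one_mem _, haA, hpA, mul_mem haA hpA]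
    by_cases hza : z₂ = a
    · exact key hyP hy2 hzP B.ord₂ (Ne.symm hne) (fun e => hne (hza.trans e.symm)) hzy hdy
        (subset_closure (Or.inr rfl)) (subset_closure (Or.inl rfl))
    · exact key hzP B.ord₂ hyP hy2 hne hza hzy.symm hdz
        (subset_closure (Or.inl rfl)) (subset_closure (Or.inr rfl))
  have hTmem : ∀ t : X, t ∈ (T : Subgroup X) → ∃ u ∈ S₁, ∃ a ∈ A, (t : G) = u * a := by
    intro t ht
    rw [hT, mem_subgroupOf] at ht
    obtain ⟨u, hu, a, ha, e⟩ := h.exists_mul ht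
    rw [hP₁] at hu
    refine ⟨u, hu, a, hP₂ a ha ?_, e⟩
    have : a = u⁻¹ * (t : G) := by rw [e]; group
    rw [this]
    exact mul_mem (inv_mem (hS₁X hu)) t.2
  -- the quotient by `O(X) A`
  set π₁ := QuotientGroup.mk' (oddCore X) with hπ₁
  set Z := (A.subgroupOf X).map π₁ with hZ
  have hZc : Z ≤ center (X ⧸ oddCore X) := by
    rintro _ ⟨a, ha, rfl⟩
    refine mem_center_iff.2 fun q => ?_
    obtain ⟨v, rfl⟩ := QuotientGroup.mk'_surjective _ q
    rw [← map_mul, ← map_mul]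
    exact congrArg π₁ (Subtype.ext (mem_centralizer_iff.1 v.2 a (mem_subgroupOf.1 ha)).symm)
  haveI : Z.Normal := ⟨fun v hv q => by rwa [mem_center_iff.1 (hZc hv) q, mul_inv_cancel_right]⟩
  have hZ2 : IsPGroup 2 Z := (hA2.comap_of_injective X.subtype X.subtype_injective).map π₁
  have hYO : oddCore ((X ⧸ oddCore X) ⧸ Z) = ⊥ :=
    oddCore_quotient_central Z hZc hZ2 (CfsgLib.Core.pPrimeCore_quotient_pPrimeCore 2 X)
  set π := (QuotientGroup.mk' Z).comp π₁ with hπ
  have hπs : Function.Surjective π :=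
    (QuotientGroup.mk'_surjective Z).comp (QuotientGroup.mk'_surjective _)
  have hker : ∀ v : X, π v = 1 → ∃ o ∈ oddCore X, ∃ a : X, (a : G) ∈ A ∧ v = o * a := by
    intro v hv
    obtain ⟨a, ha, e⟩ := (QuotientGroup.eq_one_iff (π₁ v)).1 hv
    refine ⟨v * a⁻¹, (QuotientGroup.eq_one_iff _).1 ?_, a, mem_subgroupOf.1 ha, by group⟩
    show π₁ (v * a⁻¹) = 1
    rw [map_mul, map_inv, ← e, mul_inv_cancel]
  have hπA : ∀ a : X, (a : G) ∈ A → π a = 1 := fun a ha =>
    (QuotientGroup.eq_one_iff (π₁ a)).2 (mem_map_of_mem π₁ (mem_subgroupOf.2 ha))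
  let T' : Sylow 2 ((X ⧸ oddCore X) ⧸ Z) := T.mapSurjective hπs
  have hS₁T : ∀ d (hd : d ∈ S₁), (⟨d, hS₁X hd⟩ : X) ∈ (T : Subgroup X) := fun d hd => by
    rw [hT, mem_subgroupOf]; exact hQP (mem_sup_left hd)
  have hAT : ∀ a : X, (a : G) ∈ A → a ∈ (T : Subgroup X) := fun a ha => by
    rw [hT, mem_subgroupOf]; exact hQP (mem_sup_right ha)
  let ψ : S₁ →* (T' : Subgroup ((X ⧸ oddCore X) ⧸ Z)) :=
    (π.comp (inclusion hS₁X)).codRestrict _ fun d => mem_map_of_mem π (hS₁T d d.2)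
  have hTO : ∀ v : X, v ∈ (T : Subgroup X) → v ∈ oddCore X → v = 1 := fun v h1 h2 => by
    have : v ∈ (T : Subgroup X) ⊓ oddCore X := ⟨h1, h2⟩
    rwa [inf_eq_bot_of_coprime (coprime_two_group T.2 (CfsgLib.ZStar.odd_card_oddCore X)), mem_bot] at this
  have hψ : Function.Bijective ψ := by
    refine ⟨(injective_iff_map_eq_one ψ).2 fun d hd => ?_, ?_⟩
    · obtain ⟨o, ho, a, ha, e⟩ := hker _ (congrArg Subtype.val hd)
      have ho1 : o = 1 := by
        refine hTO o ?_ ho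
        rw [show o = inclusion hS₁X d * a⁻¹ by rw [e]; group]
        exact mul_mem (hS₁T d d.2) (inv_mem (hAT a ha))
      refine Subtype.ext (B.split.eq_one d.2 (hAS₂ ?_))
      have e' : (d : G) = (a : G) := by
        have := congrArg Subtype.val e
        rwa [ho1, one_mul] at this
      rw [e']; exact ha
    · rintro ⟨_, t, ht, rfl⟩
      obtain ⟨u, hu, a, ha, e⟩ := hTmem t ht
      refine ⟨⟨u, hu⟩, Subtype.ext ?_⟩
      show π ⟨u, hS₁X hu⟩ = π t
      rw [show t = ⟨u, hS₁X hu⟩ * ⟨a, hAX ha⟩ from Subtype.ext e, map_mul, hπA ⟨a, hAX ha⟩ ha, mul_one]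
  let eT : (T' : Subgroup ((X ⧸ oddCore X) ⧸ Z)) ≃* DihedralGroup (2 ^ n) :=
    (MulEquiv.ofBijective ψ hψ).symm.trans e₁
  -- the trace of `M`
  set L := (bigM z₁ z₂).subgroupOf X with hL
  have hAM : A ≤ bigM z₁ z₂ := hAS₂.trans (B.split.le₂.trans B.sylow_le)
  have hOL : oddCore X ≤ L := by
    intro o ho
    refine mem_subgroupOf.2 ?_
    have h1 : (o : G) ∈ coreCent (A : Set G) := mem_map_of_mem X.subtype ho
    rw [hA, B.ctx.swap.coreCent_four B.in₂ hyI hne hzy (subset_closure (Or.inl rfl))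
      (B.ctx.ne_one₂ B.in₂)] at h1
    exact B.core_le B.in₁ B.in₂ (B.split.commute B.mem₁ B.mem₂) (B.sylow_le (B.split.le₁ B.mem₁))
      (B.sylow_le (B.split.le₂ B.mem₂)) h1.1
  have hkerL : ∀ v, π v = 1 → v ∈ L := fun v hv => by
    obtain ⟨o, ho, a, ha, rfl⟩ := hker v hv
    exact mul_mem (hOL ho) (mem_subgroupOf.2 (hAM ha))
  have hmapL : ∀ v, π v ∈ L.map π → v ∈ L := fun v hv => by
    obtain ⟨w, hw, e⟩ := hv
    have := mul_mem hw (hkerL (w⁻¹ * v) (by rw [map_mul, map_inv, e, inv_mul_cancel]))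
    rwa [mul_inv_cancel_left] at this
  have hTL : (T : Subgroup X) ≤ L := fun t ht => by
    obtain ⟨u, hu, a, ha, e⟩ := hTmem t ht
    refine mem_subgroupOf.2 (?_ : (t : G) ∈ bigM z₁ z₂)
    rw [e]
    exact mul_mem (B.sylow_le (B.split.le₁ hu)) (hAM ha)
  have hC : ∀ j ∈ L.map π, orderOf j = 2 → centralizer ({j} : Set _) ≤ L.map π := by
    rintro _ ⟨v, hv, rfl⟩ hj
    obtain ⟨l, hl, t, ht, het⟩ := exists_sylow_preimage π T hTL hv (involution_sq hj)
    obtain ⟨u, hu, a, ha, e⟩ := hTmem t ht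
    have hπt : π t = π ⟨u, hS₁X hu⟩ := by
      rw [show t = ⟨u, hS₁X hu⟩ * ⟨a, hAX ha⟩ from Subtype.ext e, map_mul, hπA ⟨a, hAX ha⟩ ha, mul_one]
    have hu2 : orderOf u = 2 := by
      have h1 : orderOf (ψ ⟨u, hu⟩) = 2 := by
        rw [← Subgroup.orderOf_coe]
        show orderOf (π ⟨u, hS₁X hu⟩) = 2
        rw [← hπt, het, orderOf_conj, hj]
      rwa [orderOf_injective ψ hψ.1, orderOf_mk] at h1
    have huI := B.split.mem_class hu hu2
    have huM : u ∈ bigM z₁ z₂ := B.sylow_le (B.split.le₁ hu)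
    have key : ∀ k : X, Commute (π k) (π ⟨u, hS₁X hu⟩) → k ∈ L := by
      intro k hk
      set s : X := ⟨u, hS₁X hu⟩
      obtain ⟨o, ho, b, hb, eo⟩ := hker (k * s * k⁻¹ * s⁻¹) (by
        rw [map_mul, map_mul, map_mul, map_inv, map_inv, hk.eq]; group)
      have hbu : Commute u (b : G) := B.split.commute hu (hAS₂ hb)
      have hb1 : (b : G) * b = 1 := by
        rw [← pow_two]
        exact (isElementaryAbelian_pair (B.ctx.sq₂ B.in₂) (involution_sq hy2) hzy).2 _ hb
      have hbs : orderOf ((b : G) * u) = 2 := by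
        refine orderOf_eq_two_of (fun h1 => involution_ne_one hu2 (B.split.eq_one hu (hAS₂ ?_))) ?_
        · rw [eq_inv_of_mul_eq_one_right h1]; exact inv_mem hb
        · rw [mul_assoc, ← mul_assoc u, hbu.eq, mul_assoc (b : G) u u, involution_sq hu2, mul_one, hb1]
      have hks : ((k : G) * u * (k : G)⁻¹) * ((b : G) * u) ∈ coreCent (A : Set G) := by
        refine ⟨o, ho, ?_⟩
        have e1 : (k : G) * u * (k : G)⁻¹ * u⁻¹ = (o : G) * b := congrArg Subtype.val eo
        have e2 : (k : G) * u * (k : G)⁻¹ = (o : G) * b * u := by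
          rw [← e1]; group
        show (o : G) = _
        rw [e2, show (o : G) * b * u * ((b : G) * u) = (o : G) * (((b : G) * u) * ((b : G) * u)) by group,
          involution_sq hbs, mul_one]
      obtain ⟨w, hw, hwe⟩ := exists_conj_of_mul_mem (coreCent_odd _)
        (show orderOf ((k : G) * u * (k : G)⁻¹) = 2 by rw [orderOf_conj]; exact hu2) hbs hks
      have hbuI : (b : G) * u ∈ I₁ := hwe ▸ B.ctx.conj₁ _ (B.ctx.conj₁ u huI _) w
      have hbu1 := B.split.mem_left hbuI (mul_mem (B.split.le₂ (hAS₂ hb)) (B.split.le₁ hu))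
      have hb0 : (b : G) = 1 := B.split.eq_one ((mul_mem_cancel_right hu).1 hbu1) (hAS₂ hb)
      rw [hb0, one_mul] at hwe
      have hwL : w ∈ bigM z₁ z₂ := by
        obtain ⟨w', hw', rfl⟩ := hw
        exact mem_subgroupOf.1 (hOL hw')
      refine mem_subgroupOf.2 ((mul_mem_cancel_left hwL).1 ?_)
      have hwC : w ∈ X := coreCent_le _ hw
      refine B.pair_cen_le huI B.in₂ (B.split.commute hu B.mem₂) huM (B.sylow_le (B.split.le₂ B.mem₂)) ?_ ?_
      · show w * (k : G) * u = u * (w * (k : G))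
        conv_rhs => rw [← hwe]
        group
      · exact (mem_centralizer_iff.1 (mul_mem hwC k.2) z₂ (subset_closure (Or.inl rfl))).symm
    intro q hq
    obtain ⟨k, rfl⟩ := hπs q
    have hkv := mem_centralizer_singleton_iff.1 hq
    refine mem_map_of_mem π ?_
    have h1 := key (l * k * l⁻¹) (by
      rw [← hπt, het, map_mul, map_mul, map_inv]
      show _ = _
      calc π l * π k * (π l)⁻¹ * (π l * π v * (π l)⁻¹) = π l * (π k * π v) * (π l)⁻¹ := by group
        _ = _ := by rw [hkv]; group)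
    have h2 := mul_mem (mul_mem (inv_mem hl) h1) hl
    simpa [mul_assoc] using h2
  have htop := eq_top_of_centralizers_le hYO T' hn eT (L.map π)
    (t := π ⟨z₁, hS₁X B.mem₁⟩) ?_ (mem_map_of_mem π (hTL (hS₁T z₁ B.mem₁))) hC
  · intro v hv
    exact mem_subgroupOf.1 (hmapL ⟨v, hv⟩ (htop ▸ mem_top _))
  · show orderOf ((ψ ⟨z₁, B.mem₁⟩ : (T' : Subgroup ((X ⧸ oddCore X) ⧸ Z))) : (X ⧸ oddCore X) ⧸ Z) = 2
    rw [Subgroup.orderOf_coe, orderOf_injective ψ hψ.1, orderOf_mk, B.ord₁]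

/-- The first class lies in `M`. -/
theorem class_le {n : ℕ} (hn : 2 ≤ n) (e₁ : S₁ ≃* DihedralGroup (2 ^ n)) {x : G} (hx : x ∈ I₁) :
    x ∈ bigM z₁ z₂ := by
  have hz₂M := B.sylow_le (B.split.le₂ B.mem₂)
  -- the class inside `C(z₂)`
  have hcen : ∀ v ∈ I₁, Commute v z₂ → v ∈ bigM z₁ z₂ := by
    intro v hv hvz
    obtain ⟨y, hy, hy2, hne, hzy⟩ := B.split.dih₂.exists_partner B.mem₂ B.ord₂
    obtain ⟨u, hu, huy⟩ := B.ctx.exists_conj_commute hv B.in₂ (B.split.swap.mem_class hy hy2) hzy hvz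
    have huM := B.core_le B.in₁ B.in₂ (B.split.commute B.mem₁ B.mem₂)
      (B.sylow_le (B.split.le₁ B.mem₁)) hz₂M hu
    have huz : Commute u z₂ := mem_centralizer_singleton_iff.1 (coreCent_le _ hu)
    have h1 : u * v * u⁻¹ ∈ bigM z₁ z₂ := by
      refine B.four_cen_le hn e₁ hy hy2 hne.symm ?_
      rw [centralizer_closure, mem_centralizer_iff]
      rintro w (rfl | rfl)
      · exact (((huz.mul_left hvz).mul_left huz.inv_left)).eq.symm
      · exact huy.eq.symm
    simpa [mul_assoc] using mul_mem (mul_mem (inv_mem huM) h1) huM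
  obtain ⟨q, -, -, hx', hc, hcx⟩ := B.ctx.pair_twice_odd hx B.in₂
  refine B.mixed_le hx' B.in₂ hc (hcen _ hx' hc) hz₂M ?_
  rw [mul_assoc, B.ctx.sq₂ B.in₂, mul_one]
  exact hcx.symm

/-- The two classes commute elementwise. -/
theorem commute_all (hO : oddCore G = ⊥) {n : ℕ} (hn : 2 ≤ n) (e₁ : S₁ ≃* DihedralGroup (2 ^ n))
    {x y : G} (hx : x ∈ I₁) (hy : y ∈ I₂) : Commute x y := by
  haveI : Fact (Nat.Prime 2) := ⟨Nat.prime_two⟩
  set N := closure I₁ with hN
  haveI hNn : N.Normal := ⟨fun v hv g => by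
    have hle : N.map (MulAut.conj g).toMonoidHom ≤ N := by
      rw [hN, MonoidHom.map_closure]
      refine closure_mono ?_
      rintro _ ⟨w, hw, rfl⟩
      exact B.ctx.conj₁ w hw g
    exact hle (mem_map_of_mem _ hv)⟩
  have hNM : N ≤ bigM z₁ z₂ := (closure_le _).2 fun v hv => B.class_le hn e₁ hv
  set W := Wc z₁ z₂ with hW
  have hWodd : Odd (Nat.card W) := B.ctx.odd_Wc B.in₁ B.in₂ (B.split.commute B.mem₁ B.mem₂)
  have hbot : W ⊓ N = ⊥ := by
    haveI : ((W ⊓ N).subgroupOf N).Normal := (normal_subgroupOf_iff_le_normalizer inf_le_right).2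
      ((le_inf hNM le_normalizer).trans inf_normalizer_le_normalizer_inf)
    have h1 : (W ⊓ N).subgroupOf N ≤ oddCore N := CfsgLib.ZStar.le_oddCore inferInstance (by
      rw [Nat.card_congr (subgroupOfEquivOfLe inf_le_right).toEquiv]
      exact hWodd.of_dvd_nat (card_dvd_of_le inf_le_left))
    have h2 := CfsgLib.Core.map_subtype_pPrimeCore_le (p := 2) N
    rw [← subgroupOf_map_subtype]
    refine le_bot_iff.1 ((map_mono (?_ : W.subgroupOf N ≤ oddCore N)).trans (h2.trans hO.le))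
    exact fun v hv => h1 (mem_subgroupOf.2 ⟨mem_subgroupOf.1 hv, v.2⟩)
  -- `I₁` centralises `W`
  have hcen : ∀ v ∈ I₁, ∀ w ∈ W, ⁅v, w⁆ = 1 := by
    intro v hv w hw
    have : ⁅v, w⁆ ∈ W ⊓ N := by
      refine ⟨?_, ?_⟩
      · rw [commutatorElement_def]
        exact W.mul_mem ((mem_normalizer_iff.1 (B.class_le hn e₁ hv) w).1 hw) (W.inv_mem hw)
      · rw [commutatorElement_def, mul_assoc v w, mul_assoc]
        have hvN : v ∈ N := subset_closure hv
        exact mul_mem hvN (hNn.conj_mem _ (inv_mem hvN) w)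
    rwa [hbot, mem_bot] at this
  -- a commuting pair centralises the core of the centraliser of its product
  have hfix : ∀ {a b : G}, a ∈ I₁ → b ∈ I₂ → Commute a b → ∀ u ∈ coreCent ({a * b} : Set G),
      Commute u a := by
    intro a b ha hb hab u hu
    obtain ⟨g, hg⟩ := CfsgLib.Techniques.exists_conj_mem_sylow S
      (isPGroup_pair (B.ctx.sq₁ ha) (B.ctx.sq₂ hb) hab)
    have hWc : (Wc a b).map (MulAut.conj g).toMonoidHom = W := by
      rw [map_Wc]
      exact B.wc_base (B.ctx.conj₁ a ha g) (B.ctx.conj₂ b hb g)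
        (hg a (subset_closure (Or.inl rfl))) (hg b (subset_closure (Or.inr rfl)))
    have hv := commutator_mixed_le (B.ctx.sq₁ ha) (B.ctx.sq₂ hb) hab hu
    have h1 := hcen _ (B.ctx.conj₁ a ha g) _ (hWc ▸ mem_map_of_mem _ hv)
    rw [commutatorElement_eq_one_iff_mul_comm] at h1
    have hva : Commute a ⁅u, a⁆ := (MulAut.conj g).injective (by
      rw [map_mul, map_mul]; exact h1)
    have hsq : ⁅u, a⁆ * ⁅u, a⁆ = 1 := by
      have hinv : a * ⁅u, a⁆ * a⁻¹ = ⁅u, a⁆⁻¹ := by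
        rw [commutatorElement_def, involution_inv (B.ctx.inv₁ a ha)]
        simp only [mul_inv_rev, inv_inv, involution_inv (B.ctx.inv₁ a ha), mul_assoc, B.ctx.sq₁ ha, mul_one]
      rw [hva.eq, mul_inv_cancel_right] at hinv
      exact mul_eq_one_iff_eq_inv.2 hinv
    have hmem : ⁅u, a⁆ ∈ coreCent ({a * b} : Set G) := by
      have haC : a ∈ normalizer (coreCent ({a * b} : Set G) : Set G) :=
        coreCent_norm _ (mem_centralizer_singleton_iff.2 ((Commute.refl a).mul_right hab).eq)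
      rw [commutatorElement_def, mul_assoc u a, mul_assoc]
      exact mul_mem hu ((mem_normalizer_iff.1 haC _).1 (inv_mem hu))
    have h2 : ⁅u, a⁆ = 1 := by
      by_contra hne
      have h2 : orderOf ⁅u, a⁆ = 2 := orderOf_eq_two_of hne hsq
      have := (coreCent_odd _).of_dvd_nat (Subgroup.orderOf_dvd_natCard _ hmem)
      rw [h2] at this
      exact absurd this (by decide)
    exact commutatorElement_eq_one_iff_mul_comm.1 h2
  obtain ⟨q, hq, hord, hx', hc, hcx⟩ := B.ctx.pair_twice_odd hx hy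
  set r := x * y with hr
  set x' := r ^ q * y with hx'def
  have hxi : x' * y = r ^ q := by rw [hx'def, mul_assoc, B.ctx.sq₂ hy, mul_one]
  have hrc : Commute r (x' * y) := hxi ▸ (Commute.refl r).pow_right q
  have hmem := B.ctx.isolated hx' hy hc hrc
  have hyr : y * r * y = r⁻¹ := by
    rw [hr, mul_inv_rev, involution_inv (B.ctx.inv₁ x hx), involution_inv (B.ctx.inv₂ y hy),
      mul_assoc, mul_assoc, B.ctx.sq₂ hy, mul_one]
  have hinv : x' * r * x'⁻¹ = r⁻¹ := by
    rw [hx'def, mul_inv_rev, involution_inv (B.ctx.inv₂ y hy)]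
    calc r ^ q * y * r * (y * (r ^ q)⁻¹) = r ^ q * (y * r * y) * (r ^ q)⁻¹ := by group
      _ = r⁻¹ := by
        rw [hyr, ((Commute.refl r).pow_left q).inv_right.eq, mul_inv_cancel_right]
  rw [hinv] at hmem
  set v := r⁻¹ * r⁻¹ with hvdef
  have hcv := hfix hx' hy hc v hmem
  have hv2 : v * v = 1 := by
    have h1 : x' * v * x'⁻¹ = v⁻¹ := by
      rw [hvdef, show x' * (r⁻¹ * r⁻¹) * x'⁻¹ = (x' * r * x'⁻¹)⁻¹ * (x' * r * x'⁻¹)⁻¹ by group, hinv]
      exact (mul_inv_rev r⁻¹ r⁻¹).symm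
    rw [← hcv.eq, mul_inv_cancel_right] at h1
    exact mul_eq_one_iff_eq_inv.2 h1
  have hv1 : v = 1 := by
    by_contra hne
    have := (coreCent_odd _).of_dvd_nat (Subgroup.orderOf_dvd_natCard _ hmem)
    rw [orderOf_eq_two_of hne hv2] at this
    exact absurd this (by decide)
  refine commute_of_sq (B.ctx.sq₁ hx) (B.ctx.sq₂ hy) ?_
  have := congrArg (·⁻¹) hv1
  simpa [hvdef, mul_inv_rev] using this

end Base

end CfsgLib.TwoFusion.DihedralProduct
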