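import Cfsg.Agent.Lib.TwoFusion.DihedralProduct.Functor

/-!
# Products of an involution of each class; conjugation between split Sylow subgroups
-/

set_option autoImplicit false

namespace CfsgLib.TwoFusion.DihedralProduct

open Subgroup
open CfsgLib.Signalizer (involution_sq involution_inv involution_ne_one orderOf_eq_two_of orderOf_conj
  mul_pair_zpow mem_closure_pair_iff)

variable {G : Type*} [Group G]

theorem map_eq_iff {g : G} {H : Subgroup G} :
    H.map (MulAut.conj g).toMonoidHom = H ↔ g ∈ normalizer (H : Set G) := by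
  rw [Subgroup.mem_normalizer_iff'', SetLike.ext_iff]
  simp only [CfsgLib.Techniques.mem_map_conj_iff, SetLike.mem_coe]
  exact forall_congr' fun x => ⟨fun h => h.symm, fun h => h.symm⟩

/-- A conjugation mapping one split Sylow subgroup into another respects the first factors. -/
theorem Split.map_le {I₁ I₂ : Set G} (c : Ctx I₁ I₂) {P Q : Sylow 2 G} {P₁ P₂ Q₁ Q₂ : Subgroup G}
    (h : Split I₁ I₂ P P₁ P₂) (h' : Split I₁ I₂ Q Q₁ Q₂) {g : G}
    (hg : ∀ x ∈ (P : Subgroup G), g * x * g⁻¹ ∈ (Q : Subgroup G)) :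
    P₁.map (MulAut.conj g).toMonoidHom ≤ Q₁ := by
  rw [map_le_iff_le_comap]
  refine h.dih₁.le_closure.trans ((closure_le _).2 fun v hv => ?_)
  exact h'.mem_left (c.conj₁ v (h.mem_class hv.1 hv.2) g) (hg v (h.le₁ hv.1))

theorem isPGroup_closure_two {a b : G} (ha : orderOf a = 2) (hb : orderOf b = 2) {j : ℕ}
    (h : orderOf (a * b) ∣ 2 ^ j) : IsPGroup 2 (closure ({a, b} : Set G)) := by
  rintro ⟨d, hd⟩
  refine ⟨j + 1, Subtype.ext ?_⟩
  show d ^ 2 ^ (j + 1) = 1
  obtain ⟨k, rfl | rfl⟩ := (mem_closure_pair_iff ha hb).1 hd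
  · rw [← zpow_natCast, ← zpow_mul, mul_comm, zpow_mul, zpow_natCast,
      orderOf_dvd_iff_pow_eq_one.1 (h.trans (pow_dvd_pow 2 (Nat.le_succ j))), one_zpow]
  · rw [pow_succ', pow_mul, pow_two, mul_assoc, ← mul_assoc a, mul_pair_zpow ha hb, mul_assoc ((a * b) ^ _),
      involution_sq ha, mul_one, ← zpow_add, add_neg_cancel, zpow_zero, one_pow]

variable [Finite G] {I₁ I₂ : Set G}

/-- A product of involutions of different classes has order twice odd, and its involution is mixed. -/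
theorem Ctx.pair_twice_odd (c : Ctx I₁ I₂) {x y : G} (hx : x ∈ I₁) (hy : y ∈ I₂) :
    ∃ q, Odd q ∧ orderOf (x * y) = 2 * q ∧ (x * y) ^ q * y ∈ I₁ ∧ Commute ((x * y) ^ q * y) y ∧
      Commute ((x * y) ^ q) x := by
  set r := x * y with hr
  have hx2 := c.inv₁ x hx
  have hy2 := c.inv₂ y hy
  have heven : Even (orderOf r) := by
    by_contra ho
    obtain ⟨d, -, hd⟩ := CfsgLib.Signalizer.exists_conj_of_odd hx2 hy2 (Nat.not_even_iff_odd.1 ho)
    exact c.swap.not_mem hy (hd ▸ c.conj₁ x hx d)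
  obtain ⟨j, q, hq, hjq⟩ := Nat.exists_eq_pow_mul_and_not_dvd (orderOf_pos r).ne' 2 (by norm_num)
  have hqodd : Odd q := Nat.not_even_iff_odd.1 fun h => hq (even_iff_two_dvd.1 h)
  obtain ⟨t, ht⟩ := hqodd
  set w := x * r ^ q with hw
  have hwI : w ∈ I₂ := by
    have h1 : w = (r ^ t)⁻¹ * y * ((r ^ t)⁻¹)⁻¹ := by
      have h3 : x * r ^ t = (r ^ t)⁻¹ * x := by
        rw [← zpow_natCast, mul_pair_zpow hx2 hy2, zpow_neg]
      calc w = x * r ^ t * r * r ^ t := by
            rw [hw, ht, mul_assoc x, ← pow_succ, mul_assoc, ← pow_add]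
            congr 2; omega
        _ = (r ^ t)⁻¹ * (x * r) * r ^ t := by rw [h3]; group
        _ = _ := by rw [hr, ← mul_assoc x x y, involution_sq hx2, one_mul, inv_inv]
    rw [h1]
    exact c.conj₂ y hy _
  have hxw : x * w = r ^ q := by rw [hw, ← mul_assoc, involution_sq hx2, one_mul]
  have hdvd : orderOf (x * w) ∣ 2 ^ j := by
    rw [hxw]
    refine orderOf_dvd_of_pow_eq_one ?_
    rw [← pow_mul, mul_comm, ← hjq, pow_orderOf_eq_one]
  have hcomm := c.commute_of_pGroup (isPGroup_closure_two hx2 (c.inv₂ w hwI) hdvd) hx hwI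
    (subset_closure (Or.inl rfl)) (subset_closure (Or.inr rfl))
  have hsq : r ^ (q * 2) = 1 := by
    rw [pow_mul, ← hxw, hcomm.mul_pow, pow_two, pow_two, involution_sq hx2, c.sq₂ hwI, one_mul]
  have hj1 : j = 1 := by
    have h1 : 2 ^ j * q ∣ q * 2 := hjq ▸ orderOf_dvd_of_pow_eq_one hsq
    rw [mul_comm q 2] at h1
    have h2 := Nat.le_of_dvd two_pos (Nat.dvd_of_mul_dvd_mul_right (by omega) h1)
    have hj0 : j ≠ 0 := fun h0 => by
      rw [h0, pow_zero, one_mul] at hjq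
      rw [hjq] at heven
      exact Nat.not_even_iff_odd.2 ⟨t, ht⟩ heven
    by_contra hne
    have : 2 ^ 2 ≤ 2 ^ j := Nat.pow_le_pow_right two_pos (by omega)
    omega
  rw [hj1, pow_one] at hjq
  have hdiv : orderOf r / 2 = q := by omega
  obtain ⟨-, hcx, hcy⟩ := CfsgLib.Signalizer.central_involution hx2 hy2 heven
  rw [← hr, hdiv] at hcx hcy
  refine ⟨q, ⟨t, ht⟩, hjq, ?_, hcy.mul_left (Commute.refl y), hcx⟩
  obtain ⟨d, -, hd⟩ := CfsgLib.Signalizer.exists_conj_pair_zpow hx2 hy2 (t : ℤ)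
  have e : r ^ q * y = r ^ (2 * (t : ℤ)) * x := by
    rw [ht, pow_succ, mul_assoc, hr, mul_assoc x y y, c.sq₂ hy, mul_one]
    norm_cast
  rw [e, hr, ← hd]
  exact c.conj₁ x hx d

end CfsgLib.TwoFusion.DihedralProduct
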